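import Cfsg.Agent.H228.K6.Inst
import Cfsg.Agent.H404.K6.CritE

/-!
# S4876: the criteria on top of the torus machine (helper228)

* `krow_three` : three functionals killing different numbers of roots, two of weight 2;
* `two_classes` : two functionals of weight 2 (the rest from `l(B₀) ≥ 3`);
* `Out.inert` : the inertial criterion.
-/

set_option autoImplicit false
set_option linter.unusedSectionVars false

open Cfsg Subgroup

namespace Cfsg.Agent.H228.K6

open Cfsg.Lie Cfsg.Agent.H61.K6 Cfsg.Agent.H166.K6 Cfsg.Agent.H129.WData Cfsg.Agent.H210.EL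

universe u v w

/-- a matrix coded by a number, entries between `-16` and `15` -/
def dm {l : ℕ} (N : ℕ) : Mat l := fun i j => ((N / 32 ^ (l * (i : ℕ) + (j : ℕ)) % 32 : ℕ) : ℤ) - 16

theorem not_compl_of_wt {p : ℕ} {X : Type*} [Group X] [Finite X] [Fact p.Prime] {x : X} (h : wt p x = 2) :
    ¬ HasNormalPComplement p X := by
  intro h1
  have h2 : HasNormalPComplement p ↥(centralizer ({x} : Set X)) :=
    Cfsg.Agent.H634.ZJ.hasNormalPComplement_of_injective (centralizer ({x} : Set X)).subtype (subtype_injective _) h1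
  unfold wt at h
  rw [if_pos h2] at h
  omega

section

variable {G : Type v} [Group G] [Finite G] {D : ChevalleyDatum} {l p : ℕ} [hpp : Fact p.Prime] {A Th : Mat l}
  {s : ZMod p} {d : ℕ} {Γ : Type w} [Group Γ] {f : G →* Γ} {X : (Fin l → ZMod p) → G}

theorem Out.ne (h : Out D l p A Th s d Γ f X) {a b : Fin l → ZMod p} (ha : EV Th s a) (hb : EV Th s b)
    (hab : kills D l a ≠ kills D l b) : Nat.card ↥(centralizer ({X a} : Set G)) ≠ Nat.card ↥(centralizer ({X b} : Set G)) :=
  fun he => hab (h.dist a b ha hb he)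

/-- **Three classes of total weight five.** -/
theorem krow_three (h : Out D l p A Th s d Γ f X) {a b c : Fin l → ZMod p} (ha : EV Th s a) (hb : EV Th s b)
    (hc : EV Th s c) (ha0 : a ≠ 0) (hb0 : b ≠ 0) (hc0 : c ≠ 0) (hwa : wt p (X a) = 2) (hwb : wt p (X b) = 2)
    {na nb nc : ℕ} (hka : kills D l a = na) (hkb : kills D l b = nb) (hkc : kills D l c = nc)
    (hn : na ≠ nb ∧ na ≠ nc ∧ nb ≠ nc) : KRow.{u, v} p G := by
  classical
  have hab : kills D l a ≠ kills D l b := by rw [hka, hkb]; exact hn.1
  have hac : kills D l a ≠ kills D l c := by rw [hka, hkc]; exact hn.2.1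
  have hbc : kills D l b ≠ kills D l c := by rw [hkb, hkc]; exact hn.2.2
  have n1 := h.ne ha hb hab
  have n2 := h.ne ha hc hac
  have n3 := h.ne hb hc hbc
  have m1 : X a ≠ X b := fun e => n1 (by rw [e])
  have m2 : X a ≠ X c := fun e => n2 (by rw [e])
  have m3 : X b ≠ X c := fun e => n3 (by rw [e])
  refine KRow.of_wt_card (not_compl_of_wt hwa) {X a, X b, X c} ?_ ?_ ?_
  · intro x hx
    simp only [Finset.mem_insert, Finset.mem_singleton] at hx
    rcases hx with rfl | rfl | rfl
    · exact h.el ha ha0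
    · exact h.el hb hb0
    · exact h.el hc hc0
  · intro x hx y hy _ he
    simp only [Finset.mem_insert, Finset.mem_singleton] at hx hy
    rcases hx with rfl | rfl | rfl <;> rcases hy with rfl | rfl | rfl
    · rfl
    · exact absurd he n1
    · exact absurd he n2
    · exact absurd he.symm n1
    · rfl
    · exact absurd he n3
    · exact absurd he.symm n2
    · exact absurd he.symm n3
    · rfl
  · rw [Finset.sum_insert, Finset.sum_insert, Finset.sum_singleton, hwa, hwb]
    · have := one_le_wt (p := p) (X c)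
      omega
    · simpa using m3
    · simp only [Finset.mem_insert, Finset.mem_singleton]
      rintro (e | e)
      · exact m1 e
      · exact m2 e

/-- **Two classes of weight two, and `l(B₀) ≥ 3`.** -/
theorem krow_two (h : Out D l p A Th s d Γ f X) {a b : Fin l → ZMod p} (ha : EV Th s a) (hb : EV Th s b)
    (ha0 : a ≠ 0) (hb0 : b ≠ 0) (hwa : wt p (X a) = 2) (hwb : wt p (X b) = 2)
    {na nb : ℕ} (hka : kills D l a = na) (hkb : kills D l b = nb) (hn : na ≠ nb)
    (h3 : WtGe.{u, v} p (1 : G) 3) : KRow.{u, v} p G := by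
  classical
  have hab : kills D l a ≠ kills D l b := by rw [hka, hkb]; exact hn
  have n1 := h.ne ha hb hab
  have m1 : X a ≠ X b := fun e => n1 (by rw [e])
  refine KGe.of_weights' {X a, X b} ?_ ?_ (wt p) (fun x _ => wtGe_wt x) h3 ?_
  · intro x hx
    simp only [Finset.mem_insert, Finset.mem_singleton] at hx
    rcases hx with rfl | rfl
    · exact h.el ha ha0
    · exact h.el hb hb0
  · intro x hx y hy σ hσ
    have he : Nat.card ↥(centralizer ({x} : Set G)) = Nat.card ↥(centralizer ({y} : Set G)) := by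
      rw [← hσ, card_centralizer_aut]
    simp only [Finset.mem_insert, Finset.mem_singleton] at hx hy
    rcases hx with rfl | rfl <;> rcases hy with rfl | rfl
    · rfl
    · exact absurd he n1
    · exact absurd he.symm n1
    · rfl
  · rw [Finset.sum_insert (by simpa using m1), Finset.sum_singleton, hwa, hwb]
    norm_num

/-- **The inertial criterion.** -/
theorem Out.inert (h : Out D l p A Th s d Γ f X) {C : List (Fin l × Mat l)} (hC : ChainOK A C)
    (hCc : CommOK (hd C) Th) {a b : Fin l → ZMod p} (ha : EV Th s a) (ha0 : a ≠ 0) (hb : EV Th s b) (hb0 : b ≠ 0)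
    {t : ZMod p} {n : ℕ} (hnt : (n : ZMod p) * t = 1) (hta : mv (hd C) a = t • a) (htb : mv (hd C) b = b)
    {m : ℕ} (hm : 1 < m) (hn : ∀ i, 0 < i → i < m → ((n : ZMod p) ^ d) ^ i ≠ 1) (hcard : ¬ p ^ 3 ∣ Nat.card G) :
    ∃ x y z : G, H404.K6.Inert p x y z (n ^ d) m := by
  obtain ⟨z, h1, h2⟩ := h.exists_act hC hCc ha hb hnt hta htb
  refine ⟨X b, X a, z, ⟨hcard, h.orderOf hb hb0, h.orderOf ha ha0, h.comm hb ha, ?_, h1, h2, ?_⟩⟩
  · rintro ⟨j, hj⟩
    have hj' : (X b) ^ j = X a := hj
    -- `X a` is centralised by `z`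
    have h3 : z * X a * z⁻¹ = X a := by
      rw [← hj', ← conj_zpow, h1, mul_inv_cancel_right]
    rw [h2] at h3
    have h4 := hn 1 one_pos hm
    rw [pow_one] at h4
    apply h4
    have h5 : X a ^ (n ^ d) = X a ^ 1 := by rw [pow_one]; exact h3
    rw [pow_eq_pow_iff_modEq, h.orderOf ha ha0] at h5
    have h6 := (ZMod.natCast_eq_natCast_iff _ _ _).2 h5
    push_cast at h6
    exact h6
  · intro i hi him he
    apply hn i hi him
    have h6 := (ZMod.natCast_eq_natCast_iff _ _ _).2 he
    push_cast at h6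
    exact h6

end

end Cfsg.Agent.H228.K6
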