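import Cfsg.Agent.H228.K6.TwoGen
import Cfsg.Agent.H28.T5Tor

/-!
# S4876: Sylow subgroups in a torus of rank two (helper228)

`exists_fam'` : torus elements from eigenfunctionals modulo `m`, with their characters; `r2_of_eig` : two functionals
modulo `ℓ ^ a`, `|G|_ℓ ≤ ℓ ^ (2 a)`: the Sylow subgroups are homocyclic of rank two, `R2 ℓ G`.
-/

set_option autoImplicit false
set_option linter.unusedSectionVars false

namespace Cfsg.Agent.H228.K6

open CoxeterSystem Cfsg Cfsg.Lie Cfsg.Lie.ChevalleyDatum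
open Cfsg.Agent.ChevalleyStructure Cfsg.Agent.ChevalleyStructure.Elts Cfsg.Agent.ChevalleyStructure.CoxeterGeom
  Cfsg.Agent.ChevalleyStructure.CoxeterGeomTypes Cfsg.Agent.ChevalleyStructure.NPerm
open Cfsg.Agent.Tits.Roots Cfsg.Agent.Tits.Core Cfsg.Agent.Nodes Cfsg.Agent.Nodes.Reps Cfsg.Agent.Nodes.BNOf
  Cfsg.Agent.Nodes.RGDChev Cfsg.Agent.Nodes.Bruhat Cfsg.Agent.Nodes.SubComb Cfsg.Agent.Nodes.Coroot
open Cfsg.Agent.KFacts.RgdField Cfsg.Agent.KFacts.RgdChevCoord Cfsg.Agent.BpExc.TorCent Cfsg.Agent.BpExc.TorChev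
open Cfsg.Agent.GpExc.Field Cfsg.Agent.BpExc.Tow Cfsg.Agent.BpExc.TowChev Cfsg.Agent.BpExc.Fr
  Cfsg.Agent.BpExc.LangFr Cfsg.Agent.LangThm Cfsg.Agent.BpExc Cfsg.Agent.H129.TorusChar Cfsg.Agent.H129.TorusCent
  Cfsg.Agent.H129.TorusTw Cfsg.Agent.H129.TorusMain Cfsg.Agent.H493.PGTorus Cfsg.Agent.H493.PGTwist

universe u v

variable {D : ChevalleyDatum} {l : ℕ} {M : CoxeterMatrix (Fin l)} (hp : IsType D l M) {k : Type u} [Field k]
  [IsAlgClosed k] {W : Type*} [Group W] [Finite W] (cs : CoxeterSystem M W) {p e : ℕ} [Fact p.Prime] [CharP k p]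
  {σ : MulAut ↥(D.group k)} {g : (Fin l → ℤ) ≃+ (Fin l → ℤ)}
  {G0 : Type v} [Group G0] {e0 : G0 →* ↥(D.group k)}

/-- **Torus elements from eigenfunctionals modulo `m`.** -/
theorem exists_fam' (hσ : IsFrob p e σ) (F : Fr cs hp.isCartan (TT D k) (XX D l k) σ g) {d' : ℕ}
    {B' : Fin l → Fin l → ℤ} (hB : InvC D l d' B') (hd' : d' ≠ 0) {r : ℕ} {L : Fin r → (Fin l → ℤ) →+ ℤ} {m : ℕ}
    (hm0 : m ≠ 0) (hmp : ¬ p ∣ m) (hL : ∀ i x, (m : ℤ) ∣ L i (g x) - ((p ^ e : ℕ) : ℤ) * L i x)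
    {x₀ : Fin r → Fin l → ℤ} (hx₀ : ∀ i j, L i (x₀ j) = if i = j then 1 else 0) :
    ∃ T : (Fin r → Fin m) → ↥(D.group k), Function.Injective T ∧
      (∀ j, T j ∈ TT D k ∧ σ (T j) = T j ∧ T j ^ m = 1) ∧ ∀ j (n : ℕ), T j ^ n = 1 → ∀ i, m ∣ n * (j i : ℕ) := by
  have hrk : (m : k) ≠ 0 := by
    rw [Ne, CharP.cast_eq_zero_iff k p]
    exact hmp
  have : NeZero (m : k) := ⟨hrk⟩
  obtain ⟨u, hu⟩ := HasEnoughRootsOfUnity.exists_primitiveRoot k m
  have hu0 : u ≠ 0 := hu.ne_zero hm0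
  have hone : ∀ z : ℤ, u ^ z = 1 ↔ (m : ℤ) ∣ z := fun z => hu.zpow_eq_one_iff_dvd z
  have key : ∀ j : Fin r → Fin m, ∃ t ∈ TT D k, ∀ x, cX hp t x = u ^ (∑ i, ((j i : ℕ) : ℤ) * L i x) := by
    intro j
    have hMC : IsMC (fun x : Fin l → ℤ => u ^ (∑ i, ((j i : ℕ) : ℤ) * L i x)) :=
      ⟨by
        have h1 : ∑ i, ((j i : ℕ) : ℤ) * L i 0 = 0 := Finset.sum_eq_zero fun i _ => by rw [map_zero, mul_zero]
        show u ^ _ = 1
        rw [h1, zpow_zero],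
      fun x y => by
        have h1 : ∑ i, ((j i : ℕ) : ℤ) * L i (x + y) =
            (∑ i, ((j i : ℕ) : ℤ) * L i x) + ∑ i, ((j i : ℕ) : ℤ) * L i y := by
          rw [← Finset.sum_add_distrib]
          exact Finset.sum_congr rfl fun i _ => by rw [map_add, mul_add]
        show u ^ _ = u ^ _ * u ^ _
        rw [h1, zpow_add₀ hu0]⟩
    obtain ⟨t, ht, hcX⟩ := exists_cX hp hB hd' hMC fun i =>
      IsAlgClosed.exists_pow_nat_eq _ (Nat.pos_of_ne_zero hd')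
    exact ⟨t, ht, hcX⟩
  choose T hT hcX using key
  have h1 : ∀ (j : Fin r → Fin m) (i : Fin r), ∑ i', ((j i' : ℕ) : ℤ) * L i' (x₀ i) = ((j i : ℕ) : ℤ) := by
    intro j i
    rw [Finset.sum_eq_single i]
    · rw [hx₀, if_pos rfl, mul_one]
    · intro i' _ hne
      rw [hx₀, if_neg hne, mul_zero]
    · intro h
      exact absurd (Finset.mem_univ i) h
  refine ⟨T, fun j j' hj => funext fun i => Fin.ext ?_, fun j => ⟨hT j, ?_, ?_⟩, fun j n hn i => ?_⟩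
  · have h2 := hcX j (x₀ i)
    rw [hj, hcX j', h1, h1] at h2
    have h3 : u ^ (j' i : ℕ) = u ^ (j i : ℕ) := by exact_mod_cast h2
    exact (hu.pow_inj (j' i).2 (j i).2 h3).symm
  · have hσt : σ (T j) ∈ TT D k := (F.tor _).2 (hT j)
    refine cX_inj hp hσt (hT j) fun i => ?_
    have h1 : sr i = g (g.symm (sr i)) := (g.apply_symm_apply _).symm
    rw [h1, cX_sigma hp cs hσ F (hT j), hcX, hcX, ← zpow_natCast, ← zpow_mul]
    have h2 : (m : ℤ) ∣ (∑ i', ((j i' : ℕ) : ℤ) * L i' (g (g.symm (sr i)))) -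
        (∑ i', ((j i' : ℕ) : ℤ) * L i' (g.symm (sr i))) * ((p ^ e : ℕ) : ℤ) := by
      rw [Finset.sum_mul, ← Finset.sum_sub_distrib]
      refine Finset.dvd_sum fun i' _ => ?_
      obtain ⟨N, hN⟩ := hL i' (g.symm (sr i))
      refine ⟨((j i' : ℕ) : ℤ) * N, ?_⟩
      calc _ = ((j i' : ℕ) : ℤ) * (L i' (g (g.symm (sr i))) - ((p ^ e : ℕ) : ℤ) * L i' (g.symm (sr i))) := by ring
        _ = _ := by rw [hN]; ring
    obtain ⟨N, hN⟩ := h2
    rw [← sub_add_cancel (∑ i', ((j i' : ℕ) : ℤ) * L i' (g (g.symm (sr i))))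
      ((∑ i', ((j i' : ℕ) : ℤ) * L i' (g.symm (sr i))) * ((p ^ e : ℕ) : ℤ)), hN, zpow_add₀ hu0,
      (hone ((m : ℤ) * N)).2 (dvd_mul_right _ _), one_mul]
  · refine cX_inj hp (pow_mem (hT j) m) (one_mem _) fun i => ?_
    rw [cX_pow hp (hT j), cX_one, hcX, ← zpow_natCast, ← zpow_mul, hone]
    exact dvd_mul_left _ _
  · have h2 := cX_pow hp (hT j) n (x₀ i)
    rw [hn, cX_one, hcX, h1, ← zpow_natCast, ← zpow_mul] at h2
    have h3 := (hone _).1 h2.symm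
    rw [mul_comm]
    exact_mod_cast h3

/-- **Homocyclic Sylow subgroups of rank two from a torus.** -/
theorem r2_of_eig [Finite G0] (hk : LocFin k) (he : 0 < e) (hσ : IsFrob p e σ)
    (F : Fr cs hp.isCartan (TT D k) (XX D l k) σ g) {d' : ℕ} {B' : Fin l → Fin l → ℤ} (hB : InvC D l d' B')
    (hd' : d' ≠ 0) (he0 : Function.Injective e0) {d : ℕ} (hd : ∀ y, σ y = y → y ^ d ∈ e0.range)
    {w : W} {Th : Fin l → Fin l → ℤ} (hw : ∀ j, rep cs hp.isCartan w (g (sr j)) = Th j)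
    {f : ℕ} {c : Fin (f + 1) → ℤ} {V : Fin 2 → Fin (f + 1) → Fin l → ℤ} {U : Fin 2 → Fin l → ℤ}
    (h : ∀ i, EigOK (fun i j => Th j i) c (V i) (U i)) (hUV : ∀ i j, i ≠ j → ∀ s, ∑ m, U j m * V i s m = 0)
    {ℓ : ℕ} [hℓ : Fact ℓ.Prime] (hℓd : ¬ ℓ ∣ d) (hℓp : ℓ ≠ p) {a : ℕ} (ha0 : 0 < a)
    (ha : ((ℓ ^ a : ℕ) : ℤ) ∣ pv c ((p ^ e : ℕ) : ℤ)) (hcard : (Nat.card G0).factorization ℓ ≤ a * 2) : R2 ℓ G0 := by
  have hab : ∀ P : Sylow ℓ G0, IsMulCommutative (P : Subgroup G0) :=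
    H28.T5Tor.comm_of_eig hp cs hk he hσ F hB hd' he0 hd hw h hUV hℓd hℓp ha hcard
  refine ⟨hab, fun E hEp hEc => ?_⟩
  have hm0 : ℓ ^ a ≠ 0 := pow_ne_zero _ hℓ.out.ne_zero
  have hcop : (ℓ ^ a).Coprime d := ((Nat.Prime.coprime_iff_not_dvd hℓ.out).2 hℓd).pow_left a
  obtain ⟨n, z, hz, hσ', F'⟩ := exists_z hp cs hk he hσ F w
  have hmp : ¬ p ∣ ℓ ^ a := fun h1 =>
    hℓp ((Nat.prime_dvd_prime_iff_eq (Fact.out : p.Prime) hℓ.out).1 ((Fact.out : p.Prime).dvd_of_dvd_pow h1)).symm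
  obtain ⟨T, hTi, hT, hTn⟩ := exists_fam' hp cs hσ' F' hB hd' (L := fun i => lam (V i) ((p ^ e : ℕ) : ℤ)) hm0 hmp
    (fun i x => hL_of_eig hp cs hw (h i) ha x) (x₀ := U) (fun i j => by
      by_cases hij : i = j
      · subst hij
        rw [if_pos rfl]
        exact lam_unit (h i) _
      · rw [if_neg hij]
        exact lam_zero (hUV i j hij) _)
  have hcommT : ∀ x y : G0, z⁻¹ * e0 x * z ∈ TT D k → z⁻¹ * e0 y * z ∈ TT D k → x * y = y * x := by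
    intro x y hx hy
    apply he0
    have h1 := TT_comm hp _ hx _ hy
    have h2 : e0 x * e0 y = z * (z⁻¹ * e0 x * z * (z⁻¹ * e0 y * z)) * z⁻¹ := by group
    have h3 : e0 y * e0 x = z * (z⁻¹ * e0 y * z * (z⁻¹ * e0 x * z)) * z⁻¹ := by group
    rw [map_mul, map_mul, h2, h3, h1]
  let A : Subgroup G0 :=
    { carrier := {x | z⁻¹ * e0 x * z ∈ TT D k ∧ x ^ ℓ ^ a = 1}
      mul_mem' := by
        rintro x y ⟨hx, hx'⟩ ⟨hy, hy'⟩
        refine ⟨?_, ?_⟩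
        · have h1 : z⁻¹ * e0 (x * y) * z = z⁻¹ * e0 x * z * (z⁻¹ * e0 y * z) := by
            rw [map_mul]
            group
          rw [h1]
          exact mul_mem hx hy
        · have h1 : Commute x y := hcommT x y hx hy
          rw [h1.mul_pow, hx', hy', one_mul]
      one_mem' := ⟨by rw [map_one, mul_one, inv_mul_cancel]; exact one_mem _, one_pow _⟩
      inv_mem' := by
        rintro x ⟨hx, hx'⟩
        refine ⟨?_, by rw [inv_pow, hx', inv_one]⟩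
        have h1 : z⁻¹ * e0 x⁻¹ * z = (z⁻¹ * e0 x * z)⁻¹ := by
          rw [map_inv]
          group
        rw [h1]
        exact inv_mem hx }
  have hex : ∀ j : Fin 2 → Fin (ℓ ^ a), ∃ x : G0, e0 x = z * T j ^ d * z⁻¹ := by
    intro j
    obtain ⟨x, hx⟩ := hd _ (fix_conj hz (hT j).2.1)
    exact ⟨x, by rw [hx, conj_pow]⟩
  choose X hX using hex
  have hXA : ∀ j, X j ∈ A := by
    intro j
    refine ⟨?_, he0 ?_⟩
    · have h1 : z⁻¹ * e0 (X j) * z = T j ^ d := by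
        rw [hX]
        group
      rw [h1]
      exact pow_mem (hT j).1 d
    · rw [map_pow, hX, conj_pow, ← pow_mul, mul_comm d, pow_mul, (hT j).2.2, one_pow, mul_one, mul_inv_cancel, map_one]
  have hXi : Function.Injective (fun j => (⟨X j, hXA j⟩ : ↥A)) := by
    intro j j' hjj
    apply hTi
    have h1 : X j = X j' := congrArg Subtype.val hjj
    have h2 : T j ^ d = T j' ^ d := by
      have h3 : z * T j ^ d * z⁻¹ = z * T j' ^ d * z⁻¹ := by rw [← hX, ← hX, h1]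
      exact mul_left_cancel (mul_right_cancel h3)
    have hc : Commute (T j) (T j')⁻¹ := (show Commute (T j) (T j') from TT_comm hp _ (hT j).1 _ (hT j').1).inv_right
    have h3 : orderOf (T j * (T j')⁻¹) ∣ Nat.gcd (ℓ ^ a) d := by
      refine Nat.dvd_gcd (orderOf_dvd_of_pow_eq_one ?_) (orderOf_dvd_of_pow_eq_one ?_)
      · rw [hc.mul_pow, inv_pow, (hT j).2.2, (hT j').2.2, inv_one, one_mul]
      · rw [hc.mul_pow, inv_pow, h2, mul_inv_cancel]
    rw [hcop, Nat.dvd_one, orderOf_eq_one_iff] at h3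
    exact mul_inv_eq_one.1 h3
  -- `A` is a Sylow subgroup
  have hAl : IsPGroup ℓ A := fun x => ⟨a, Subtype.ext x.2.2⟩
  obtain ⟨Q, hQ⟩ := hAl.exists_le_sylow
  have hAcard : ℓ ^ (a * 2) ≤ Nat.card A := by
    have h1 := Nat.card_le_card_of_injective _ hXi
    rwa [Nat.card_fun, Nat.card_eq_fintype_card, Nat.card_eq_fintype_card, Fintype.card_fin, Fintype.card_fin,
      ← pow_mul] at h1
  have hQcard : Nat.card Q ≤ ℓ ^ (a * 2) := by
    rw [Q.card_eq_multiplicity]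
    exact Nat.pow_le_pow_right hℓ.out.pos hcard
  have hAQ : A = (Q : Subgroup G0) := Subgroup.eq_of_le_of_card_ge hQ (hQcard.trans hAcard)
  have hsurj : Function.Surjective (fun j => (⟨X j, hXA j⟩ : ↥A)) := by
    have hfin : Finite ↥A := inferInstance
    have hA2 : Nat.card A = ℓ ^ (a * 2) := le_antisymm (hAQ ▸ hQcard) hAcard
    refine ((Nat.bijective_iff_injective_and_card _).2 ⟨hXi, ?_⟩).2
    rw [Nat.card_fun, Nat.card_eq_fintype_card, Nat.card_eq_fintype_card, Fintype.card_fin, Fintype.card_fin,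
      ← pow_mul, hA2]
  -- `E` is conjugate to a subgroup of `A`
  have hEl : IsPGroup ℓ E := fun x => ⟨1, Subtype.ext (by rw [pow_one]; exact hEp x x.2)⟩
  obtain ⟨y, hy⟩ := exists_conj_map (f := MonoidHom.id G0) Function.injective_id rfl Q hEl
  have hyA : ∀ x : ↥E, ∃ j : Fin 2 → Fin (ℓ ^ a), X j = y * x * y⁻¹ := by
    intro x
    obtain ⟨b, hb, hb'⟩ := hy x x.2
    rw [← hAQ] at hb
    obtain ⟨j, hj⟩ := hsurj ⟨b, hb⟩
    exact ⟨j, by rw [← hb']; exact congrArg Subtype.val hj⟩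
  choose J hJ using hyA
  have hJd : ∀ x i, ℓ ^ a ∣ ℓ * (J x i : ℕ) := by
    intro x
    apply hTn
    have h1 : (X (J x)) ^ ℓ = 1 := by rw [hJ, conj_pow, hEp x x.2, mul_one, mul_inv_cancel]
    have h2 : (T (J x) ^ d) ^ ℓ = 1 := by
      have h3 : z * (T (J x) ^ d) ^ ℓ * z⁻¹ = 1 := by rw [← conj_pow, ← hX, ← map_pow, h1, map_one]
      calc (T (J x) ^ d) ^ ℓ = z⁻¹ * (z * (T (J x) ^ d) ^ ℓ * z⁻¹) * z := by group
        _ = 1 := by rw [h3]; group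
    have h3 : orderOf (T (J x) ^ ℓ) ∣ Nat.gcd (ℓ ^ a) d := by
      refine Nat.dvd_gcd (orderOf_dvd_of_pow_eq_one ?_) (orderOf_dvd_of_pow_eq_one ?_)
      · rw [← pow_mul, mul_comm, pow_mul, (hT _).2.2, one_pow]
      · rw [← pow_mul, mul_comm, pow_mul]
        exact h2
    rwa [hcop, Nat.dvd_one, orderOf_eq_one_iff] at h3
  -- the values of `J`
  obtain ⟨b, rfl⟩ : ∃ b, a = b + 1 := ⟨a - 1, by omega⟩
  have hdiv : ∀ x i, ℓ ^ b ∣ (J x i : ℕ) := by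
    intro x i
    have h1 : ℓ ^ b * ℓ ∣ (J x i : ℕ) * ℓ := by
      rw [← pow_succ, mul_comm _ ℓ]
      exact hJd x i
    exact Nat.dvd_of_mul_dvd_mul_right hℓ.out.pos h1
  have hlt : ∀ x i, (J x i : ℕ) / ℓ ^ b < ℓ := by
    intro x i
    rw [Nat.div_lt_iff_lt_mul (pow_pos hℓ.out.pos _), ← pow_succ']
    exact (J x i).2
  let φ : ↥E → Fin 2 → Fin ℓ := fun x i => ⟨(J x i : ℕ) / ℓ ^ b, hlt x i⟩
  have hφ : Function.Injective φ := by
    intro x x' hxx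
    have h1 : J x = J x' := by
      funext i
      apply Fin.ext
      have h2 : (J x i : ℕ) / ℓ ^ b = (J x' i : ℕ) / ℓ ^ b := congrArg Fin.val (congrFun hxx i)
      rw [← Nat.div_mul_cancel (hdiv x i), h2, Nat.div_mul_cancel (hdiv x' i)]
    have h2 := hJ x
    rw [h1, hJ x'] at h2
    exact Subtype.ext (mul_left_cancel (mul_right_cancel h2)).symm
  have h3 := Nat.card_le_card_of_injective φ hφ
  rwa [Nat.card_fun, Nat.card_eq_fintype_card (α := Fin ℓ), Nat.card_eq_fintype_card (α := Fin 2), Fintype.card_fin,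
    Fintype.card_fin] at h3

end Cfsg.Agent.H228.K6
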