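import Cfsg.Agent.H228.K6.Out

/-!
# The torus machine for the untwisted groups, `²E₆(q)`, `³D₄(q)` (helper228, S4876)
-/

set_option autoImplicit false
set_option linter.unusedSectionVars false

namespace Cfsg.Agent.H228.K6

open CoxeterSystem Cfsg Cfsg.Lie Cfsg.Lie.ChevalleyDatum
open Cfsg.Agent.ChevalleyStructure Cfsg.Agent.ChevalleyStructure.Elts Cfsg.Agent.ChevalleyStructure.CoxeterGeom
  Cfsg.Agent.ChevalleyStructure.CoxeterGeomTypes Cfsg.Agent.ChevalleyStructure.NPerm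
  Cfsg.Agent.ChevalleyStructure.RootVec
open Cfsg.Agent.Tits.Roots Cfsg.Agent.Tits.Core Cfsg.Agent.Nodes Cfsg.Agent.Nodes.Reps Cfsg.Agent.Nodes.BNOf
  Cfsg.Agent.Nodes.RGDChev Cfsg.Agent.Nodes.Bruhat Cfsg.Agent.Nodes.Coroot
open Cfsg.Agent.KFacts.RgdField Cfsg.Agent.KFacts.RgdChevCoord Cfsg.Agent.BpExc.TorCent Cfsg.Agent.BpExc.TorChev
open Cfsg.Agent.GpExc.Field Cfsg.Agent.BpExc.Tow Cfsg.Agent.BpExc.TowChev Cfsg.Agent.BpExc.Fr
  Cfsg.Agent.BpExc.LangFr Cfsg.Agent.H795.SetCent Cfsg.Agent.H795.Toral Cfsg.Agent.H795.Core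
  Cfsg.Agent.H795.RootConn Cfsg.Agent.H795.SetTor Cfsg.Agent.H129.TorusChar Cfsg.Agent.H129.TorusUntw
  Cfsg.Agent.H129.WData Cfsg.Agent.H795.Reduce Cfsg.Agent.H795.LangT Cfsg.Agent.H795.Untw Cfsg.Agent.H795.Tw
  Cfsg.Agent.BpExc Cfsg.Agent.H210.EL Cfsg.Agent.H61.K6 Cfsg.Agent.H166.K6 Cfsg.Agent.H720.TwFr

universe u v

section

variable {D : ChevalleyDatum} {l : ℕ} {M : CoxeterMatrix (Fin l)} (hp : IsType D l M)

include hp in
/-- **The untwisted groups.** -/
theorem exists_out_untw {F : Type u} [Field F] [Fintype F] {p : ℕ} [hpp : Fact p.Prime] (hpF : (p : F) ≠ 0)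
    {q : ℕ} (hF : Fintype.card F = q)
    {d : ℕ} {B : Fin l → Fin l → ℤ} (hB : InvC D l d B) (hd0 : d ≠ 0) (hd1 : d = 1 ∨ d.Prime) (hpd : ¬ p ∣ d)
    {A : Mat l} (hA : ∀ i j, A i j = cartanOf D l i j) {Cw : List (Fin l × Mat l)} (hw : ChainOK A Cw) :
    ∃ (Γ : Type u) (_ : Group Γ) (f' : ↥(D.group F) →* Γ) (X : (Fin l → ZMod p) → ↥(D.group F)),
      Out D l p A (hd Cw) (q : ZMod p) d Γ f' X := by
  obtain ⟨r, e, hr, hrF, hrk, he, hq, hk⟩ := exists_closure (F := F) rfl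
  have hpr : p ≠ r := by
    rintro rfl
    exact hpF (CharP.cast_eq_zero F p)
  have hset := setup_untw hp hk (algebraMap F (AlgebraicClosure F)) he hq hB hd0 hd1 (p := p) hpd
  have hGf : Finite ↥(D.group F) := inferInstance
  have h1 := exists_out hk hset hpr hB hd0 (d' := d) (fun y hy => by
      obtain ⟨x, hx⟩ := fix_pow_range hp M.toCoxeterSystem (algebraMap F (AlgebraicClosure F)) hq hB hd0 hy
      exact ⟨x, hx⟩) (fun y hy => by
      obtain ⟨x, t, ht, e1⟩ := fix_split hp (algebraMap F (AlgebraicClosure F)) hq hy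
      exact ⟨x, t, ht, e1⟩) hA hw (Th := hd Cw) (fun j m => by
      rw [Finset.sum_eq_single j]
      · show (sr j : Fin l → ℤ) j * hd Cw j m = hd Cw j m
        rw [sr_self, one_mul]
      · intro n _ hn
        show (sr j : Fin l → ℤ) n * hd Cw n m = 0
        rw [sr_ne hn, zero_mul]
      · intro hj
        exact absurd (Finset.mem_univ j) hj)
  rw [← hq, hF] at h1
  exact h1

end

/-- **`²E₆(q)`.** -/
theorem exists_out_six {K : Type u} [Field K] [Fintype K] {p q : ℕ} [hpp : Fact p.Prime] (hpK : (p : K) ≠ 0)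
    (hq : IsPrimePow q) (hK : Fintype.card K = q ^ 2) (hp3 : p ≠ 3)
    {A : Mat 6} (hA : ∀ i j, A i j = cartanOf chevE6 6 i j) {Cw : List (Fin 6 × Mat 6)} (hw : ChainOK A Cw)
    {Th : Mat 6} (hTh : ∀ j, Th j = hd Cw (rho6 j)) :
    ∃ (Γ : Type u) (_ : Group Γ) (f' : ↥(twistedE6 K q) →* Γ) (X : (Fin 6 → ZMod p) → ↥(twistedE6 K q)),
      Out chevE6 6 p A Th (q : ZMod p) 3 Γ f' X := by
  obtain ⟨r, n, hr, hrF, hrk, hn0, hn, hk⟩ := exists_closure_q two_ne_zero hq hK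
  have hpr : p ≠ r := by
    rintro rfl
    exact hpK (CharP.cast_eq_zero K p)
  have hφ : ∀ t : AlgebraicClosure K, iterateFrobenius (AlgebraicClosure K) r n t = t ^ q := fun t => by
    rw [iterateFrobenius_def, hn]
  have h1 := exists_out hk (setup_six (algebraMap K (AlgebraicClosure K)) r hk hn0 hn hK hp3) hpr invC_E6
    three_ne_zero (d' := 3) (fun y hy => by
      obtain ⟨x, hx⟩ := desc6 (algebraMap K (AlgebraicClosure K)) r hk hn0 hn hK hy
      obtain ⟨m, hm⟩ := Nat.gcd_dvd_left 3 (q + 1)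
      refine ⟨x ^ m, ?_⟩
      rw [map_pow, hx, ← pow_mul, ← hm]) (fun y hy => by
      obtain ⟨x, hx, t, ht, e⟩ := EmbInst.twE6_split (f := algebraMap K (AlgebraicClosure K)) hq hK hφ y.2
        (by rw [← coe_sig6, hy])
      exact ⟨⟨x, hx⟩, ⟨t, diagonal_le_group hp6.inList (AlgebraicClosure K) ht⟩, ht, Subtype.ext e⟩) hA hw
    (Th := Th) (fun j m => by
      have e1 : ∀ n, (permE rho6 (sr j)) n = if n = rho6 j then 1 else 0 := by
        intro n
        show (sr j : Fin 6 → ℤ) (rho6.symm n) = _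
        by_cases hn' : n = rho6 j
        · rw [if_pos hn', hn', Equiv.symm_apply_apply, sr_self]
        · rw [if_neg hn', sr_ne]
          intro h2
          exact hn' (by rw [← h2, Equiv.apply_symm_apply])
      simp only [e1, ite_mul, one_mul, zero_mul, Finset.sum_ite_eq', Finset.mem_univ, if_true]
      rw [hTh])
  rw [← hn] at h1
  exact h1

/-- **`³D₄(q)`.** -/
theorem exists_out_four {K : Type u} [Field K] [Fintype K] {p q : ℕ} [hpp : Fact p.Prime] (hpK : (p : K) ≠ 0)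
    (hq : IsPrimePow q) (hK : Fintype.card K = q ^ 3)
    {A : Mat 4} (hA : ∀ i j, A i j = cartanOf chevD4 4 i j) {Cw : List (Fin 4 × Mat 4)} (hw : ChainOK A Cw)
    {Th : Mat 4} (hTh : ∀ j, Th j = hd Cw (rho4 j)) :
    ∃ (Γ : Type u) (_ : Group Γ) (f' : ↥(twistedD4 K q) →* Γ) (X : (Fin 4 → ZMod p) → ↥(twistedD4 K q)),
      Out chevD4 4 p A Th (q : ZMod p) 1 Γ f' X := by
  obtain ⟨r, n, hr, hrF, hrk, hn0, hn, hk⟩ := exists_closure_q three_ne_zero hq hK
  have hpr : p ≠ r := by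
    rintro rfl
    exact hpK (CharP.cast_eq_zero K p)
  have h1 := exists_out hk (setup_four (algebraMap K (AlgebraicClosure K)) r (tw4_le hq hK) hk hn0 hn hK) hpr invC_D4
    two_ne_zero (d' := 1) (p := p) (fun y hy => by
      obtain ⟨x, hx⟩ := desc4 (algebraMap K (AlgebraicClosure K)) r (tw4_le hq hK) hk hn0 hn hK hy
      exact ⟨x, by rw [hx, pow_one]⟩) (fun y hy => by
      obtain ⟨x, hx⟩ := desc4 (algebraMap K (AlgebraicClosure K)) r (tw4_le hq hK) hk hn0 hn hK hy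
      exact ⟨x, 1, one_mem _, by rw [mul_one, hx]⟩) hA hw
    (Th := Th) (fun j m => by
      have e1 : ∀ n, (permE rho4 (sr j)) n = if n = rho4 j then 1 else 0 := by
        intro n
        show (sr j : Fin 4 → ℤ) (rho4.symm n) = _
        by_cases hn' : n = rho4 j
        · rw [if_pos hn', hn', Equiv.symm_apply_apply, sr_self]
        · rw [if_neg hn', sr_ne]
          intro h2
          exact hn' (by rw [← h2, Equiv.apply_symm_apply])
      simp only [e1, ite_mul, one_mul, zero_mul, Finset.sum_ite_eq', Finset.mem_univ, if_true]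
      rw [hTh])
  rw [← hn] at h1
  exact h1

end Cfsg.Agent.H228.K6
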