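import Cfsg.Agent.H210.EL.Gen
import Cfsg.Agent.H461.E2.Cent

/-!
# The `p`-torsion of a maximal torus `T_w`, all eigenvectors at once (helper228, S4876)

`Setup hp p r e f σ g`, `w` an element of the Weyl group, `θ = w g` on the root lattice `ℤ ^ l`.
A functional `c : (ZMod p) ^ l` with `c ∘ θ = r ^ e • c` (`Eg θ (r ^ e) c`) gives an element `X c` of `G`:

* `Mach.add`, `Mach.eq_one`, `Mach.pow` : `X` is an injective homomorphism on the eigenspace;
* `Mach.card` : `2 * v_r |C_G(X c)| = e * #{roots killed by c}`;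
* `Mach.lift` : an element `v` of the Weyl group commuting with `θ` is realised by a fixed element `y` of `D.group k`:
  `y f(X c) y⁻¹ = f(X c')`, `c' ∘ v = c`.
-/

set_option autoImplicit false
set_option linter.unusedSectionVars false

namespace Cfsg.Agent.H228.K6

open CoxeterSystem Cfsg Cfsg.Lie Cfsg.Lie.ChevalleyDatum
open Cfsg.Agent.ChevalleyStructure Cfsg.Agent.ChevalleyStructure.Elts Cfsg.Agent.ChevalleyStructure.CoxeterGeom
  Cfsg.Agent.ChevalleyStructure.CoxeterGeomTypes Cfsg.Agent.ChevalleyStructure.NPerm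
open Cfsg.Agent.Tits.Roots Cfsg.Agent.Tits.Core Cfsg.Agent.Nodes Cfsg.Agent.Nodes.Reps Cfsg.Agent.Nodes.BNOf
  Cfsg.Agent.Nodes.RGDChev Cfsg.Agent.Nodes.Bruhat
open Cfsg.Agent.KFacts.RgdField Cfsg.Agent.KFacts.RgdChevCoord Cfsg.Agent.BpExc.TorCent Cfsg.Agent.BpExc.TorChev
open Cfsg.Agent.GpExc.Field Cfsg.Agent.BpExc.Tow Cfsg.Agent.BpExc.TowChev Cfsg.Agent.BpExc.Fr
  Cfsg.Agent.BpExc.LangFr Cfsg.Agent.H795.SetCent Cfsg.Agent.H795.Toral Cfsg.Agent.H795.Core
  Cfsg.Agent.H795.RootConn Cfsg.Agent.H795.SetTor Cfsg.Agent.H129.TorusChar Cfsg.Agent.H129.TorusUntw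
  Cfsg.Agent.H129.WData Cfsg.Agent.H795.Reduce Cfsg.Agent.H795.LangT
  Cfsg.Agent.BpExc Cfsg.Agent.H210.EL

universe u v

/-- `c` is an eigenvector of the transposed of `θ` with eigenvalue `s` -/
def Eg {l p : ℕ} (θ : (Fin l → ℤ) → (Fin l → ℤ)) (s : ZMod p) (c : Fin l → ZMod p) : Prop :=
  ∀ x, lam c (θ x) = s * lam c x

theorem lam_add' {l p : ℕ} (a b : Fin l → ZMod p) (x : Fin l → ℤ) : lam (a + b) x = lam a x + lam b x := by
  unfold lam
  rw [← Finset.sum_add_distrib]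
  exact Finset.sum_congr rfl fun n _ => by rw [Pi.add_apply, mul_add]

theorem lam_zero' {l p : ℕ} (x : Fin l → ℤ) : lam (0 : Fin l → ZMod p) x = 0 := by
  unfold lam
  exact Finset.sum_eq_zero fun n _ => by rw [Pi.zero_apply, mul_zero]

theorem Eg.add {l p : ℕ} {θ : (Fin l → ℤ) → (Fin l → ℤ)} {s : ZMod p} {a b : Fin l → ZMod p} (ha : Eg θ s a)
    (hb : Eg θ s b) : Eg θ s (a + b) := fun x => by rw [lam_add', lam_add', ha x, hb x, mul_add]

theorem Eg.zero {l p : ℕ} {θ : (Fin l → ℤ) → (Fin l → ℤ)} {s : ZMod p} : Eg θ s (0 : Fin l → ZMod p) := fun x => by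
  rw [lam_zero', lam_zero', mul_zero]

theorem Eg.nsmul {l p : ℕ} {θ : (Fin l → ℤ) → (Fin l → ℤ)} {s : ZMod p} {a : Fin l → ZMod p} (ha : Eg θ s a) (n : ℕ) :
    Eg θ s (n • a) := by
  induction n with
  | zero => rw [zero_smul]; exact Eg.zero
  | succ n ih => rw [succ_nsmul]; exact ih.add ha

variable {D : ChevalleyDatum} {l : ℕ} {M : CoxeterMatrix (Fin l)} {hp : IsType D l M}
  {k : Type u} [Field k] {r : ℕ} [Fact r.Prime] [CharP k r]

/-- the output of the machine -/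
structure Mach {G : Type v} [Group G] (hp : IsType D l M) (p r e : ℕ)
    (f : G →* ↥(D.group k)) (σ : MulAut ↥(D.group k)) (θ : (Fin l → ℤ) → (Fin l → ℤ))
    (X : (Fin l → ZMod p) → G) : Prop where
  add : ∀ c c', Eg θ ((r ^ e : ℕ) : ZMod p) c → Eg θ ((r ^ e : ℕ) : ZMod p) c' → X (c + c') = X c * X c'
  eq_one : ∀ c, Eg θ ((r ^ e : ℕ) : ZMod p) c → (X c = 1 ↔ c = 0)
  pow : ∀ c, Eg θ ((r ^ e : ℕ) : ZMod p) c → X c ^ p = 1
  card : ∀ c, Eg θ ((r ^ e : ℕ) : ZMod p) c →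
    2 * (Nat.card ↥(Subgroup.centralizer {X c})).factorization r =
      e * {a | IsRoot M.toCoxeterSystem hp.isCartan a ∧ lam c a = 0}.ncard
  lift : ∀ v : M.Group, (∀ x, rep M.toCoxeterSystem hp.isCartan v (θ x) = θ (rep M.toCoxeterSystem hp.isCartan v x)) →
    ∃ y : ↥(D.group k), σ y = y ∧ ∀ c c', Eg θ ((r ^ e : ℕ) : ZMod p) c → Eg θ ((r ^ e : ℕ) : ZMod p) c' →
      (∀ x, lam c' (rep M.toCoxeterSystem hp.isCartan v x) = lam c x) → y * f (X c) * y⁻¹ = f (X c')

/-- **The machine.** -/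
theorem exists_mach [IsAlgClosed k] (hk : LocFin k) {G : Type v} [Group G] [Finite G] {p : ℕ} [hpp : Fact p.Prime]
    {e : ℕ} {f : G →* ↥(D.group k)} {σ : MulAut ↥(D.group k)} {g : (Fin l → ℤ) ≃+ (Fin l → ℤ)}
    (h : Setup hp p r e f σ g) (hpr : p ≠ r) {d : ℕ} {B : Fin l → Fin l → ℤ} (hB : InvC D l d B) (hd : d ≠ 0)
    (w : M.Group) :
    ∃ X : (Fin l → ZMod p) → G,
      Mach hp p r e f σ (fun x => rep M.toCoxeterSystem hp.isCartan w (g x)) X := by
  classical
  have hp1 : p.Prime := hpp.out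
  -- the root of unity
  have hpk : (p : k) ≠ 0 := by
    intro h
    have h1 := (CharP.cast_eq_zero_iff k r p).1 h
    exact hpr.symm ((Nat.prime_dvd_prime_iff_eq Fact.out hp1).1 h1)
  have : NeZero (p : k) := ⟨hpk⟩
  obtain ⟨ζ, hζ⟩ := HasEnoughRootsOfUnity.exists_primitiveRoot k p
  have hζp : ζ ^ p = 1 := hζ.pow_eq_one
  have hζinj : ∀ c : ZMod p, ζ ^ c.val = 1 → c = 0 := by
    intro c h
    have h1 := (hζ.pow_eq_one_iff_dvd _).1 h
    have h2 : c.val < p := ZMod.val_lt c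
    have h3 : c.val = 0 := Nat.eq_zero_of_dvd_of_lt h1 h2
    exact (ZMod.val_eq_zero c).1 h3
  -- the torus elements
  have hT : ∀ c : Fin l → ZMod p, ∃ t ∈ TT D k, ∀ x, cX hp t x = chr ζ c x := fun c =>
    exists_cX hp (k := k) hB hd (isMC_chr hζp c) (fun i => IsAlgClosed.exists_pow_nat_eq _ (Nat.pos_of_ne_zero hd))
  choose t ht hX using hT
  have H := tow hp M.toCoxeterSystem hk r
  obtain ⟨nw, hnw⟩ := exists_rp M.toCoxeterSystem H.nsys w
  obtain ⟨u, hu⟩ := lang_all hp M.toCoxeterSystem h.e_pos h.frob h.fr 1 nw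
  have hu' : nw = u⁻¹ * σ u := by
    rw [map_one, one_mul] at hu
    exact hu
  have Fr1 : Fr M.toCoxeterSystem hp.isCartan (TT D k) (XX D l k) (ct σ u)
      (g.trans (repAut M.toCoxeterSystem hp.isCartan w)) := by
    have h1 := Fr.conj H (by rw [hu'] at hnw; exact hnw : Rp M.toCoxeterSystem H.nsys w (u⁻¹ * σ u))
    rw [TL_eq hp hk, XL_eq hp hk] at h1
    exact h1.mul h.fr
  have hσ1 : IsFrob r e (ct σ u) := h.frob.conj_mul _
  have hg1 : ∀ x, (g.trans (repAut M.toCoxeterSystem hp.isCartan w)) x =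
      rep M.toCoxeterSystem hp.isCartan w (g x) := fun x => rfl
  set θ : (Fin l → ℤ) → (Fin l → ℤ) := fun x => rep M.toCoxeterSystem hp.isCartan w (g x) with hθ
  -- fixed
  have hfixt : ∀ c : Fin l → ZMod p, Eg θ ((r ^ e : ℕ) : ZMod p) c → ct σ u (t c) = t c := by
    intro c hc
    refine cX_inj hp ((Fr1.tor (t c)).2 (ht c)) (ht c) fun i => ?_
    obtain ⟨y, hy⟩ := (g.trans (repAut M.toCoxeterSystem hp.isCartan w)).surjective (sr i)
    rw [← hy, cX_sigma hp M.toCoxeterSystem hσ1 Fr1 (ht c), hX, hX, hg1]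
    unfold chr
    rw [hc y, pow_val_cast hζp]
  have htp : ∀ c, t c ^ p = 1 := by
    intro c
    refine cX_inj hp (pow_mem (ht c) p) (one_mem _) fun i => ?_
    rw [cX_pow hp (ht c), cX_one, hX]
    unfold chr
    rw [← pow_mul, mul_comm, pow_mul, hζp, one_pow]
  -- back in the finite group
  have hback : ∀ c : Fin l → ZMod p, ∃ x : G, Eg θ ((r ^ e : ℕ) : ZMod p) c → f x = u * t c * u⁻¹ := by
    intro c
    by_cases hc : Eg θ ((r ^ e : ℕ) : ZMod p) c
    · obtain ⟨x, hx⟩ := h.p_mem (u * t c * u⁻¹) (ct_fix.1 (hfixt c hc)) ⟨1, by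
        rw [pow_one, conj_pow, htp, mul_one, mul_inv_cancel]⟩
      exact ⟨x, fun _ => hx⟩
    · exact ⟨1, fun hc' => absurd hc' hc⟩
  choose X hXf using hback
  refine ⟨X, ?_, ?_, ?_, ?_, ?_⟩
  · intro c c' hc hc'
    apply h.inj
    rw [map_mul, hXf c hc, hXf c' hc', hXf _ (hc.add hc')]
    have h1 : t (c + c') = t c * t c' := by
      refine cX_inj hp (ht _) (mul_mem (ht c) (ht c')) fun i => ?_
      rw [cX_mul hp (ht c) (ht c'), hX, hX, hX]
      unfold chr
      rw [lam_add', pow_val_add hζp]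
    rw [h1]
    group
  · intro c hc
    constructor
    · intro h1
      have h2 : t c = 1 := by
        have h3 := hXf c hc
        rw [h1, map_one] at h3
        have h4 : t c = u⁻¹ * (u * t c * u⁻¹) * u := by group
        rw [h4, ← h3]
        group
      funext i
      apply hζinj
      have h3 := hX c (sr i)
      rw [h2, cX_one] at h3
      unfold chr at h3
      rw [lam_sr] at h3
      exact h3.symm
    · rintro rfl
      apply h.inj
      rw [hXf _ hc, map_one]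
      have h2 : t 0 = 1 := by
        refine cX_inj hp (ht _) (one_mem _) fun i => ?_
        rw [cX_one, hX]
        unfold chr
        rw [lam_zero', ZMod.val_zero, pow_zero]
      rw [h2, mul_one, mul_inv_cancel]
  · intro c hc
    apply h.inj
    rw [map_pow, map_one, hXf c hc, conj_pow, htp, mul_one, mul_inv_cancel]
  · intro c hc
    have h1 := H461.E2.Cent.two_mul_factorization hk h hp1 hpr (x := X c) (z := u) (t := t c) (by
      apply h.inj
      rw [map_pow, map_one, hXf c hc, conj_pow, htp, mul_one, mul_inv_cancel]) (by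
      rw [hXf c hc]; group) (ht c)
    rw [h1]
    congr 2
    ext a
    constructor
    · rintro ⟨ha, hb⟩
      refine ⟨ha, hζinj _ ?_⟩
      rw [← cX_root hp M.toCoxeterSystem (ht c) ha, hX] at hb
      exact hb
    · rintro ⟨ha, hb⟩
      refine ⟨ha, ?_⟩
      rw [← cX_root hp M.toCoxeterSystem (ht c) ha, hX]
      unfold chr
      rw [hb, ZMod.val_zero, pow_zero]
  · intro v hv
    obtain ⟨m, hm, hmf⟩ := exists_fixed_lift hp hk hB hd h.e_pos hσ1 Fr1 (v := v) (fun x => hv x)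
    refine ⟨u * m * u⁻¹, ct_fix.1 hmf, fun c c' hc hc' hcc => ?_⟩
    rw [hXf c hc, hXf c' hc']
    have h1 : m * t c * m⁻¹ = t c' := by
      refine cX_inj hp (rp_conj_mem hp hk hm (ht c)) (ht c') fun i => ?_
      obtain ⟨y', hy'⟩ := (repAut M.toCoxeterSystem hp.isCartan v).surjective (sr i)
      have hy'' : rep M.toCoxeterSystem hp.isCartan v y' = sr i := hy'
      rw [← hy'', cX_rp' hp hk hm (ht c), hX, hX]
      unfold chr
      rw [hcc]
    calc u * m * u⁻¹ * (u * t c * u⁻¹) * (u * m * u⁻¹)⁻¹ = u * (m * t c * m⁻¹) * u⁻¹ := by group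
      _ = _ := by rw [h1]

end Cfsg.Agent.H228.K6
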