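import Cfsg.Agent.H228.K6.Mach
import Cfsg.Agent.H166.K6.Fus
import Cfsg.Agent.H795.Tw

/-!
# The torus machine at the level of the finite group (helper228, S4876)

`Out A D l p Th s d Γ f X` : the functionals `c : (ZMod p) ^ l` with `Th c = s c` give elements `X c` of `G`, `G` is
embedded as a normal subgroup in `Γ` with quotient of exponent dividing `d` and commutative, elements of `W` commuting
with `Th` act.

* `exists_out_untw`, `exists_out_six`, `exists_out_four` : the instances;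
* `Out.wt_two`, `Out.wt_two_comm` : weight two.
-/

set_option autoImplicit false
set_option linter.unusedSectionVars false

namespace Cfsg.Agent.H228.K6

open CoxeterSystem Cfsg Cfsg.Lie Cfsg.Lie.ChevalleyDatum
open Cfsg.Agent.ChevalleyStructure Cfsg.Agent.ChevalleyStructure.Elts Cfsg.Agent.ChevalleyStructure.CoxeterGeom
  Cfsg.Agent.ChevalleyStructure.CoxeterGeomTypes Cfsg.Agent.ChevalleyStructure.NPerm
  Cfsg.Agent.ChevalleyStructure.RootVec
open Cfsg.Agent.Tits.Roots Cfsg.Agent.Tits.Core Cfsg.Agent.Nodes Cfsg.Agent.Nodes.Reps Cfsg.Agent.Nodes.BNOf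
  Cfsg.Agent.Nodes.RGDChev Cfsg.Agent.Nodes.Bruhat Cfsg.Agent.Nodes.Coroot
open Cfsg.Agent.KFacts.RgdField Cfsg.Agent.KFacts.RgdChevCoord Cfsg.Agent.BpExc.TorCent Cfsg.Agent.BpExc.TorChev
open Cfsg.Agent.GpExc.Field Cfsg.Agent.BpExc.Tow Cfsg.Agent.BpExc.TowChev Cfsg.Agent.BpExc.Fr
  Cfsg.Agent.BpExc.LangFr Cfsg.Agent.H795.SetCent Cfsg.Agent.H795.Toral Cfsg.Agent.H795.Core
  Cfsg.Agent.H795.RootConn Cfsg.Agent.H795.SetTor Cfsg.Agent.H129.TorusChar Cfsg.Agent.H129.TorusUntw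
  Cfsg.Agent.H129.WData Cfsg.Agent.H795.Reduce Cfsg.Agent.H795.LangT
  Cfsg.Agent.BpExc Cfsg.Agent.H210.EL Cfsg.Agent.H61.K6 Cfsg.Agent.H166.K6 Cfsg.Agent.H720.TwFr

universe u v

/-- the matrix applied to a functional -/
def mv {l p : ℕ} (V : Mat l) (a : Fin l → ZMod p) : Fin l → ZMod p := fun j => ∑ n, (V j n : ZMod p) * a n

/-- the number of the roots killed by a functional -/
def kills (D : ChevalleyDatum) (l : ℕ) {p : ℕ} (c : Fin l → ZMod p) : ℕ :=
  ((Finset.range D.nroots).filter fun r => ∑ n : Fin l, (rt D r n : ZMod p) * c n = 0).card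

theorem mv_add {l p : ℕ} (V : Mat l) (a b : Fin l → ZMod p) : mv V (a + b) = mv V a + mv V b := by
  funext j
  show ∑ n, (V j n : ZMod p) * (a n + b n) = ∑ n, (V j n : ZMod p) * a n + ∑ n, (V j n : ZMod p) * b n
  rw [← Finset.sum_add_distrib]
  exact Finset.sum_congr rfl fun n _ => by rw [mul_add]

theorem mv_smul {l p : ℕ} (V : Mat l) (s : ZMod p) (a : Fin l → ZMod p) : mv V (s • a) = s • mv V a := by
  funext j
  show ∑ n, (V j n : ZMod p) * (s * a n) = s * ∑ n, (V j n : ZMod p) * a n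
  rw [Finset.mul_sum]
  exact Finset.sum_congr rfl fun n _ => by ring

theorem mv_comm {l p : ℕ} {V W : Mat l} (h : CommOK V W) (a : Fin l → ZMod p) : mv V (mv W a) = mv W (mv V a) := by
  funext j
  show ∑ n, (V j n : ZMod p) * ∑ m, (W n m : ZMod p) * a m = ∑ n, (W j n : ZMod p) * ∑ m, (V n m : ZMod p) * a m
  have h1 : ∀ X Y : Mat l, ∑ n, (X j n : ZMod p) * ∑ m, (Y n m : ZMod p) * a m =
      ∑ m, ((∑ n, X j n * Y n m : ℤ) : ZMod p) * a m := by
    intro X Y
    calc ∑ n, (X j n : ZMod p) * ∑ m, (Y n m : ZMod p) * a m =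
        ∑ n, ∑ m, (X j n : ZMod p) * ((Y n m : ZMod p) * a m) :=
          Finset.sum_congr rfl fun n _ => Finset.mul_sum _ _ _
      _ = ∑ m, ∑ n, (X j n : ZMod p) * ((Y n m : ZMod p) * a m) := Finset.sum_comm
      _ = _ := by
        refine Finset.sum_congr rfl fun m _ => ?_
        rw [Int.cast_sum, Finset.sum_mul]
        exact Finset.sum_congr rfl fun n _ => by push_cast; ring
  rw [h1, h1]
  exact Finset.sum_congr rfl fun m _ => by rw [h j m]

/-- `c` is an eigenvector -/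
def EV {l p : ℕ} (Th : Mat l) (s : ZMod p) (c : Fin l → ZMod p) : Prop := mv Th c = s • c

instance instDecEV {l p : ℕ} (Th : Mat l) (s : ZMod p) (c : Fin l → ZMod p) : Decidable (EV Th s c) := by
  unfold EV; infer_instance

theorem EV.add {l p : ℕ} {Th : Mat l} {s : ZMod p} {a b : Fin l → ZMod p} (ha : EV Th s a) (hb : EV Th s b) :
    EV Th s (a + b) := by
  unfold EV at *
  rw [mv_add, ha, hb, smul_add]

theorem EV.smul {l p : ℕ} {Th : Mat l} {s : ZMod p} {a : Fin l → ZMod p} (t : ZMod p) (ha : EV Th s a) :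
    EV Th s (t • a) := by
  unfold EV at *
  rw [mv_smul, ha, smul_comm]

theorem EV.mv {l p : ℕ} {Th V : Mat l} {s : ZMod p} (h : CommOK V Th) {a : Fin l → ZMod p} (ha : EV Th s a) :
    EV Th s (mv V a) := by
  unfold EV at *
  rw [← mv_comm h, ha, mv_smul]

/-- the output of the machine -/
structure Out {G : Type v} [Group G] (D : ChevalleyDatum) (l p : ℕ) (A Th : Mat l) (s : ZMod p) (d : ℕ)
    (Γ : Type u) [Group Γ] (f : G →* Γ) (X : (Fin l → ZMod p) → G) : Prop where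
  inj : Function.Injective f
  idx : ∀ y, ∃ x, f x = y ^ d
  com : ∀ y y' : Γ, ∃ x, f x = y * y' * y⁻¹ * y'⁻¹
  add : ∀ c c', EV Th s c → EV Th s c' → X (c + c') = X c * X c'
  eq_one : ∀ c, EV Th s c → (X c = 1 ↔ c = 0)
  pow : ∀ c, EV Th s c → X c ^ p = 1
  dist : ∀ c c', EV Th s c → EV Th s c' →
    Nat.card ↥(Subgroup.centralizer {X c}) = Nat.card ↥(Subgroup.centralizer {X c'}) → kills D l c = kills D l c'
  lift : ∀ C, ChainOK A C → CommOK (hd C) Th → ∃ y : Γ, ∀ c, EV Th s c → y * f (X (mv (hd C) c)) * y⁻¹ = f (X c)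

theorem eg_of {l p : ℕ} {θ : (Fin l → ℤ) →+ (Fin l → ℤ)} {Th : Mat l} (h : ∀ j, θ (sr j) = Th j) {s : ZMod p}
    {c : Fin l → ZMod p} (hc : EV Th s c) : Eg θ s c := fun x =>
  ext_sr ((lamHom c).comp θ) ((AddMonoidHom.mulLeft s).comp (lamHom c)) (fun i => by
    show lam c (θ (sr i)) = s * lam c (sr i)
    rw [h i, lam_sr]
    exact congrFun hc i) x

theorem lam_mv {l p : ℕ} {θ : (Fin l → ℤ) →+ (Fin l → ℤ)} {V : Mat l} (h : ∀ j, θ (sr j) = V j)
    {c : Fin l → ZMod p} (x : Fin l → ℤ) : lam c (θ x) = lam (mv V c) x :=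
  ext_sr ((lamHom c).comp θ) (lamHom (mv V c)) (fun i => by
    show lam c (θ (sr i)) = lam (mv V c) (sr i)
    rw [h i, lam_sr]
    rfl) x

section

variable {D : ChevalleyDatum} {l : ℕ} {M : CoxeterMatrix (Fin l)} {hp : IsType D l M}
  {k : Type u} [Field k] {r : ℕ} [Fact r.Prime] [CharP k r]

theorem ncard_kills {p : ℕ} (c : Fin l → ZMod p) :
    {a | IsRoot M.toCoxeterSystem hp.isCartan a ∧ lam c a = 0}.ncard = kills D l c := by
  have h1 : {a | IsRoot M.toCoxeterSystem hp.isCartan a ∧ lam c a = 0} = (fun r => vec D l r) ''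
      (((Finset.range D.nroots).filter fun r => ∑ n : Fin l, (rt D r n : ZMod p) * c n = 0 : Finset ℕ) : Set ℕ) := by
    ext x
    simp only [Set.mem_image, Finset.mem_coe, Finset.mem_filter, Finset.mem_range, Set.mem_ofPred_eq]
    constructor
    · rintro ⟨hx, hx0⟩
      obtain ⟨r, hr, rfl⟩ := (isRoot_iff hp _ x).1 hx
      exact ⟨r, ⟨hr, hx0⟩, rfl⟩
    · rintro ⟨r, ⟨hr, hx0⟩, rfl⟩
      exact ⟨isRoot_vec hp _ hr, hx0⟩
  rw [h1, Set.InjOn.ncard_image, Set.ncard_coe_finset]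
  · rfl
  · intro r hr s hs e
    exact vec_inj hp (Finset.mem_range.1 (Finset.mem_filter.1 hr).1) (Finset.mem_range.1 (Finset.mem_filter.1 hs).1) e

/-- **The output from the machine.** `Th j = w (g (sr j))`. -/
theorem exists_out [IsAlgClosed k] (hk : LocFin k) {G : Type v} [Group G] [Finite G] {p : ℕ} [hpp : Fact p.Prime]
    {e : ℕ} {f : G →* ↥(D.group k)} {σ : MulAut ↥(D.group k)} {g : (Fin l → ℤ) ≃+ (Fin l → ℤ)}
    (h : Setup hp p r e f σ g) (hpr : p ≠ r) {d : ℕ} {B : Fin l → Fin l → ℤ} (hB : InvC D l d B) (hd0 : d ≠ 0)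
    {d' : ℕ} (hidx : ∀ y, σ y = y → ∃ x, f x = y ^ d')
    (hsp : ∀ y, σ y = y → ∃ (x : G) (t : ↥(D.group k)), t ∈ TT D k ∧ y = f x * t)
    {A : Mat l} (hA : ∀ i j, A i j = cartanOf D l i j) {Cw : List (Fin l × Mat l)} (hw : ChainOK A Cw)
    {Th : Mat l} (hTh : ∀ j m, ∑ n, (g (sr j : Fin l → ℤ)) n * hd Cw n m = Th j m) :
    ∃ (Γ : Type u) (_ : Group Γ) (f' : G →* Γ) (X : (Fin l → ZMod p) → G),
      Out D l p A Th ((r ^ e : ℕ) : ZMod p) d' Γ f' X := by
  classical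
  set w : M.Group := M.toCoxeterSystem.wordProd (Cw.map Prod.fst) with hwdef
  have hwr := chain_rep hp M.toCoxeterSystem hA hw
  rw [← hwdef] at hwr
  obtain ⟨X, hX⟩ := exists_mach hk h hpr hB hd0 w
  let θ : (Fin l → ℤ) →+ (Fin l → ℤ) := (rep M.toCoxeterSystem hp.isCartan w).toAddMonoidHom.comp g.toAddMonoidHom
  have hθ : ∀ j, θ (sr j) = Th j := by
    intro j
    funext m
    show rep M.toCoxeterSystem hp.isCartan w (g (sr j)) m = Th j m
    rw [H795.TorsData.rep_of_sr hp M.toCoxeterSystem hwr, hTh]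
  have hEg : ∀ c : Fin l → ZMod p, EV Th ((r ^ e : ℕ) : ZMod p) c →
      Eg (fun x => rep M.toCoxeterSystem hp.isCartan w (g x)) ((r ^ e : ℕ) : ZMod p) c := fun c hc => eg_of hθ hc
  let Γ : Subgroup ↥(D.group k) := fixedSubgroup σ
  have hΓ : ∀ y, y ∈ Γ ↔ σ y = y := fun y => Iff.rfl
  let f' : G →* ↥Γ := f.codRestrict Γ (fun x => (hΓ _).2 (h.fix x))
  have hf' : ∀ x, ((f' x : ↥Γ) : ↥(D.group k)) = f x := fun x => rfl
  refine ⟨↥Γ, inferInstance, f', X, ?_, ?_, ?_, ?_, ?_, ?_, ?_, ?_⟩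
  · intro a b hab
    exact h.inj (congrArg Subtype.val hab)
  · intro y
    obtain ⟨x, hx⟩ := hidx y ((hΓ _).1 y.2)
    exact ⟨x, Subtype.ext hx⟩
  · intro y y'
    obtain ⟨x, t, ht, hy⟩ := hsp y ((hΓ _).1 y.2)
    obtain ⟨x', t', ht', hy'⟩ := hsp y' ((hΓ _).1 y'.2)
    have hft : σ t = t := by
      have h1 := (hΓ _).1 y.2
      rw [hy, map_mul, h.fix] at h1
      exact mul_left_cancel h1
    have hft' : σ t' = t' := by
      have h1 := (hΓ _).1 y'.2
      rw [hy', map_mul, h.fix] at h1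
      exact mul_left_cancel h1
    have hc := TT_comm hp (K := k) _ ht _ ht'
    -- `f x t f x' t' t⁻¹ (f x)⁻¹ t'⁻¹ (f x')⁻¹`
    obtain ⟨a, ha⟩ := h.norm t hft x'
    obtain ⟨b, hb⟩ := h.norm t' hft' x⁻¹
    refine ⟨x * a * b * x'⁻¹, Subtype.ext ?_⟩
    show f (x * a * b * x'⁻¹) = (y : ↥(D.group k)) * y' * (y : ↥(D.group k))⁻¹ * (y' : ↥(D.group k))⁻¹
    rw [map_mul, map_mul, map_mul, ha, hb, map_inv, map_inv, hy, hy']
    have h1 : t⁻¹ * t' = t' * t⁻¹ := by
      rw [inv_mul_eq_iff_eq_mul, ← mul_assoc, eq_mul_inv_iff_mul_eq, hc]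
    calc f x * (t * f x' * t⁻¹) * (t' * (f x)⁻¹ * t'⁻¹) * (f x')⁻¹
        = f x * t * f x' * (t⁻¹ * t') * (f x)⁻¹ * t'⁻¹ * (f x')⁻¹ := by group
      _ = f x * t * f x' * (t' * t⁻¹) * (f x)⁻¹ * t'⁻¹ * (f x')⁻¹ := by rw [h1]
      _ = _ := by group
  · intro c c' hc hc'
    exact hX.add c c' (hEg c hc) (hEg c' hc')
  · intro c hc
    exact hX.eq_one c (hEg c hc)
  · intro c hc
    exact hX.pow c (hEg c hc)
  · intro c c' hc hc' he
    have h1 := hX.card c (hEg c hc)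
    have h2 := hX.card c' (hEg c' hc')
    rw [he, h2, ncard_kills (hp := hp) c', ncard_kills (hp := hp) c] at h1
    exact (Nat.eq_of_mul_eq_mul_left h.e_pos h1).symm
  · intro C hC hCc
    set v : M.Group := M.toCoxeterSystem.wordProd (C.map Prod.fst) with hvdef
    have hvr := chain_rep hp M.toCoxeterSystem hA hC
    rw [← hvdef] at hvr
    obtain ⟨y, hy, hyX⟩ := hX.lift v (by
      intro x
      have h1 := ext_sr ((rep M.toCoxeterSystem hp.isCartan v).toAddMonoidHom.comp θ)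
        (θ.comp (rep M.toCoxeterSystem hp.isCartan v).toAddMonoidHom) (fun j => by
          show rep M.toCoxeterSystem hp.isCartan v (θ (sr j)) = θ (rep M.toCoxeterSystem hp.isCartan v (sr j))
          rw [hθ, hvr]
          funext m
          rw [H795.TorsData.rep_of_sr hp M.toCoxeterSystem hvr, Lin.apply hθ]
          exact (hCc j m).symm) x
      exact h1)
    refine ⟨⟨y, (hΓ _).2 hy⟩, fun c hc => Subtype.ext ?_⟩
    refine hyX (mv (hd C) c) c (hEg _ (hc.mv hCc)) (hEg c hc) fun x => ?_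
    exact lam_mv (θ := (rep M.toCoxeterSystem hp.isCartan v).toAddMonoidHom) hvr x

end

/-! ### weights -/

section

variable {G : Type v} [Group G] [Finite G] {D : ChevalleyDatum} {l p : ℕ} [hpp : Fact p.Prime] {A Th : Mat l}
  {s : ZMod p} {d : ℕ} {Γ : Type u} [Group Γ] {f : G →* Γ} {X : (Fin l → ZMod p) → G}

theorem Out.nsmul (h : Out D l p A Th s d Γ f X) {c : Fin l → ZMod p} (hc : EV Th s c) (n : ℕ) :
    X ((n : ZMod p) • c) = X c ^ n := by
  induction n with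
  | zero =>
    rw [Nat.cast_zero, zero_smul, pow_zero]
    refine (h.eq_one 0 ?_).2 rfl
    have := hc.smul (0 : ZMod p)
    rwa [zero_smul] at this
  | succ n ih => rw [Nat.cast_succ, add_smul, one_smul, h.add _ _ (hc.smul _) hc, ih, pow_succ]

theorem Out.el (h : Out D l p A Th s d Γ f X) {c : Fin l → ZMod p} (hc : EV Th s c) (h0 : c ≠ 0) : El p (X c) :=
  ⟨⟨1, by rw [pow_one]; exact orderOf_eq_prime (h.pow c hc) fun h1 => h0 ((h.eq_one c hc).1 h1)⟩,
    fun h1 => h0 ((h.eq_one c hc).1 h1)⟩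

theorem Out.orderOf (h : Out D l p A Th s d Γ f X) {c : Fin l → ZMod p} (hc : EV Th s c) (h0 : c ≠ 0) :
    orderOf (X c) = p := orderOf_eq_prime (h.pow c hc) fun h1 => h0 ((h.eq_one c hc).1 h1)

theorem Out.comm (h : Out D l p A Th s d Γ f X) {c c' : Fin l → ZMod p} (hc : EV Th s c) (hc' : EV Th s c') :
    X c * X c' = X c' * X c := by
  rw [← h.add c c' hc hc', add_comm, h.add c' c hc' hc]

/-- iteration of an action by powers -/
theorem conj_iter' {Y : Type*} [Group Y] {y a : Y} {n : ℕ} (h1 : y * a * y⁻¹ = a ^ n) (m : ℕ) :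
    y ^ m * a * (y ^ m)⁻¹ = a ^ n ^ m := conj_iter h1 m

/-- **Elements of `C(X b)` acting on `⟨X a⟩` as a power.** -/
theorem Out.exists_act (h : Out D l p A Th s d Γ f X) {C : List (Fin l × Mat l)} (hC : ChainOK A C)
    (hCc : CommOK (hd C) Th) {a b : Fin l → ZMod p} (ha : EV Th s a) (hb : EV Th s b) {t : ZMod p} {n : ℕ}
    (hnt : (n : ZMod p) * t = 1) (hta : mv (hd C) a = t • a) (htb : mv (hd C) b = b) :
    ∃ z : G, z * X b = X b * z ∧ z * X a * z⁻¹ = X a ^ n ^ d := by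
  obtain ⟨y, hy⟩ := h.lift C hC hCc
  have h1 : y * f (X b) * y⁻¹ = f (X b) := by
    have := hy b hb
    rwa [htb] at this
  have h2 : y * f (X a) * y⁻¹ = f (X a) ^ n := by
    have h3 := hy ((n : ZMod p) • a) (ha.smul _)
    rw [mv_smul, hta, smul_smul, hnt, one_smul, h.nsmul ha, map_pow] at h3
    exact h3
  obtain ⟨z, hz⟩ := h.idx y
  refine ⟨z, ?_, ?_⟩
  · apply h.inj
    rw [map_mul, map_mul, hz]
    have h4 : y * f (X b) * y⁻¹ = f (X b) ^ 1 := by rw [pow_one]; exact h1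
    have h3 := conj_iter' h4 d
    rw [one_pow, pow_one, mul_inv_eq_iff_eq_mul] at h3
    exact h3
  · apply h.inj
    rw [map_mul, map_mul, map_inv, map_pow, hz]
    exact conj_iter' h2 d

/-- **Weight two.** -/
theorem Out.wt_two (h : Out D l p A Th s d Γ f X) {C : List (Fin l × Mat l)} (hC : ChainOK A C)
    (hCc : CommOK (hd C) Th) {a b : Fin l → ZMod p} (ha : EV Th s a) (ha0 : a ≠ 0) (hb : EV Th s b) {t : ZMod p}
    {n : ℕ} (hnt : (n : ZMod p) * t = 1) (hta : mv (hd C) a = t • a) (htb : mv (hd C) b = b)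
    (hn : (n : ZMod p) ^ d ≠ 1) : wt p (X b) = 2 := by
  obtain ⟨z, h1, h2⟩ := h.exists_act hC hCc ha hb hnt hta htb
  refine wt_two_of_fus (h.comm ha hb) h1 (h.el ha ha0).2 (k := 1) (by rw [pow_one]; exact h.orderOf ha ha0)
    (j := n ^ d) ?_ h2
  rw [Nat.cast_pow]
  exact hn

/-- **Weight two from a commutator.** -/
theorem Out.wt_two_comm (h : Out D l p A Th s d Γ f X) {C C' : List (Fin l × Mat l)} (hC : ChainOK A C)
    (hCc : CommOK (hd C) Th) (hC' : ChainOK A C') (hCc' : CommOK (hd C') Th) {a b : Fin l → ZMod p}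
    (ha : EV Th s a) (ha0 : a ≠ 0) (hb : EV Th s b) {n : ℕ}
    (hta : mv (hd C) (mv (hd C') a) = (n : ZMod p) • mv (hd C') (mv (hd C) a))
    (htb : mv (hd C) (mv (hd C') b) = mv (hd C') (mv (hd C) b)) (hn : (n : ZMod p) ≠ 1) : wt p (X b) = 2 := by
  obtain ⟨y, hy⟩ := h.lift C hC hCc
  obtain ⟨y', hy'⟩ := h.lift C' hC' hCc'
  have key : ∀ {g1 g2 : Γ} {u : Γ}, u * g1 * u⁻¹ = g2 → u⁻¹ * g2 * u = g1 := by
    rintro g1 g2 u rfl
    group
  have hact : ∀ (c c' : Fin l → ZMod p), EV Th s c → EV Th s c' →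
      mv (hd C) (mv (hd C') c) = mv (hd C') (mv (hd C) c') →
      (y * y' * y⁻¹ * y'⁻¹) * f (X c) * (y * y' * y⁻¹ * y'⁻¹)⁻¹ = f (X c') := by
    intro c c' hc hc' he
    have e1 := key (hy' c hc)
    have e2 := key (hy (mv (hd C') c) (hc.mv hCc'))
    have e3 := hy' (mv (hd C) c') (hc'.mv hCc)
    have e4 := hy c' hc'
    calc (y * y' * y⁻¹ * y'⁻¹) * f (X c) * (y * y' * y⁻¹ * y'⁻¹)⁻¹
        = y * (y' * (y⁻¹ * (y'⁻¹ * f (X c) * y') * y) * y'⁻¹) * y⁻¹ := by group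
      _ = _ := by rw [e1, e2, he, e3, e4]
  obtain ⟨z, hz⟩ := h.com y y'
  have h1 : z * X b = X b * z := by
    apply h.inj
    rw [map_mul, map_mul, hz]
    have h3 := hact b b hb hb htb
    rw [mul_inv_eq_iff_eq_mul] at h3
    exact h3
  have h2 : z * X a * z⁻¹ = X a ^ n := by
    apply h.inj
    rw [map_mul, map_mul, map_inv, map_pow, hz]
    have h3 := hact a ((n : ZMod p) • a) ha (ha.smul _) (by rw [mv_smul, mv_smul]; exact hta)
    rw [h.nsmul ha, map_pow] at h3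
    exact h3
  exact wt_two_of_fus (h.comm ha hb) h1 (h.el ha ha0).2 (k := 1) (by rw [pow_one]; exact h.orderOf ha ha0)
    (j := n) hn h2

end

end Cfsg.Agent.H228.K6
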