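import Cfsg.Agent.H210.K6.Tools
import Cfsg.Agent.H795.AbSyl

/-!
# S4876, criterion (P4): abelian Sylow subgroups of rank at most two and order at least `p ^ 4`, `p = 5, 7` (helper228)

`KRow.of_rank_two` : Sylow `p`-subgroups of `X` abelian, elementary abelian `p`-subgroups of order at most `p ^ 2`,
`p ^ 4 ∣ |X|`, `p = 5` or `7`: `KRow p X` (`k ≥ |P| / ((p ^ 2 - 1) (p - 1)) > 6`).
-/

set_option autoImplicit false

open Cfsg Subgroup

namespace Cfsg.Agent.H228.K6

open Cfsg.Agent.H61.K6 Cfsg.Agent.H634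

universe u v

theorem relIndex_le_of_map {G : Type*} [Group G] {H K : Subgroup G} {α : Type*} [Finite α] (φ : K → α)
    (h : ∀ a b : K, φ a = φ b → (a : G)⁻¹ * b ∈ H) : H.relIndex K ≤ Nat.card α := by
  have h1 : Function.Injective (fun x : K ⧸ H.subgroupOf K => φ (Quotient.out x)) := by
    intro x y hxy
    have h2 := h _ _ hxy
    rw [← QuotientGroup.out_eq' x, ← QuotientGroup.out_eq' y, QuotientGroup.eq]
    exact h2
  exact Nat.card_le_card_of_injective _ h1

section

variable {G : Type*} [Group G] [Finite G] {p : ℕ} [hp : Fact p.Prime]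

/-- **The bound for the automizer.** -/
theorem relIndex_le (P : Sylow p G) (hP : IsMulCommutative (P : Subgroup G))
    (hr : Nat.card {x : G // x ∈ (P : Subgroup G) ∧ x ^ p = 1} ≤ p ^ 2) (hp1 : ∃ a ∈ (P : Subgroup G), a ≠ 1) :
    (centralizer ((P : Subgroup G) : Set G)).relIndex (normalizer ((P : Subgroup G) : Set G)) ≤
      (p - 1) * (p ^ 2 - 1) := by
  classical
  set N := normalizer ((P : Subgroup G) : Set G) with hN
  set C := centralizer ((P : Subgroup G) : Set G) with hC
  have hcomm : ∀ a ∈ (P : Subgroup G), ∀ b ∈ (P : Subgroup G), a * b = b * a := fun a ha b hb =>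
    H795.comm_of hP ha hb
  have hnP : ∀ n ∈ N, ∀ x ∈ (P : Subgroup G), n * x * n⁻¹ ∈ (P : Subgroup G) := fun n hn x hx =>
    (mem_normalizer_iff.1 hn x).1 hx
  -- `a` of order `p`
  obtain ⟨a, haP, ha1, hap⟩ : ∃ a ∈ (P : Subgroup G), a ≠ 1 ∧ a ^ p = 1 := by
    obtain ⟨a, haP, ha1⟩ := hp1
    obtain ⟨k, hk⟩ := P.2 ⟨a, haP⟩
    have hk' : a ^ p ^ k = 1 := congrArg Subtype.val hk
    obtain ⟨m, -, hm⟩ := (Nat.dvd_prime_pow hp.out).1 (orderOf_dvd_of_pow_eq_one hk')
    have hm0 : m ≠ 0 := by
      rintro rfl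
      rw [pow_zero, orderOf_eq_one_iff] at hm
      exact ha1 hm
    refine ⟨a ^ p ^ (m - 1), pow_mem haP _, fun h1 => ?_, ?_⟩
    · have h2 := orderOf_dvd_of_pow_eq_one h1
      rw [hm] at h2
      have h3 := (Nat.pow_dvd_pow_iff_le_right hp.out.one_lt).1 h2
      omega
    · rw [← pow_mul, ← pow_succ, Nat.sub_add_cancel (Nat.one_le_iff_ne_zero.2 hm0), ← hm, pow_orderOf_eq_one]
  set Na := N ⊓ centralizer ({a} : Set G) with hNa
  have hCN : C ≤ N := centralizer_le_normalizer _
  have hCNa : C ≤ Na := le_inf hCN (centralizer_le (Set.singleton_subset_iff.2 haP))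
  have hfin : Finite {x : G // x ∈ (P : Subgroup G) ∧ x ^ p = 1} := inferInstance
  -- first factor
  have h1 : Na.relIndex N ≤ p ^ 2 - 1 := by
    let α := {x : {x : G // x ∈ (P : Subgroup G) ∧ x ^ p = 1} // x ≠ ⟨1, one_mem _, one_pow p⟩}
    have hα : Nat.card α ≤ p ^ 2 - 1 := by
      have e1 : Nat.card α + 1 = Nat.card {x : G // x ∈ (P : Subgroup G) ∧ x ^ p = 1} := by
        have := Fintype.ofFinite {x : G // x ∈ (P : Subgroup G) ∧ x ^ p = 1}
        rw [Nat.card_eq_fintype_card, Nat.card_eq_fintype_card, Fintype.card_subtype_compl, Fintype.card_subtype_eq]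
        have : 0 < Fintype.card {x : G // x ∈ (P : Subgroup G) ∧ x ^ p = 1} :=
          Fintype.card_pos_iff.2 ⟨⟨1, one_mem _, one_pow p⟩⟩
        omega
      omega
    refine (relIndex_le_of_map (α := α) (fun n : N => ⟨⟨(n : G) * a * (n : G)⁻¹, hnP n n.2 a haP, by
      rw [conj_pow, hap, mul_one, mul_inv_cancel]⟩, fun h2 => ha1 (by
        have h3 : (n : G) * a * (n : G)⁻¹ = 1 := congrArg Subtype.val h2
        rw [mul_inv_eq_one, mul_eq_left] at h3
        exact h3)⟩) fun n m hnm => ?_).trans hα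
    have h2 : (n : G) * a * (n : G)⁻¹ = m * a * (m : G)⁻¹ := congrArg (fun z : α => (z.1.1 : G)) hnm
    have h0 : (n : G)⁻¹ * (m : G) ∈ N := mul_mem (inv_mem n.2) m.2
    refine ⟨h0, mem_centralizer_singleton_iff.2 ?_⟩
    have h3 : (n : G)⁻¹ * m * a = (n : G)⁻¹ * (m * a * (m : G)⁻¹) * m := by group
    rw [h3, ← h2]
    group
  -- second factor
  have h2 : C.relIndex Na ≤ p - 1 := by
    by_cases hex : ∃ b ∈ (P : Subgroup G), b ^ p = 1 ∧ b ∉ zpowers a
    · obtain ⟨b, hbP, hbp, hba⟩ := hex
      have hb1 : b ≠ 1 := fun h => hba (h ▸ one_mem _)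
      have hoa := orderOf_eq_prime hap ha1
      have hob := orderOf_eq_prime hbp hb1
      -- every element of order `p` is `a ^ i * b ^ j`
      have hform : ∀ x ∈ (P : Subgroup G), x ^ p = 1 → ∃ (i : ℕ) (j : ℕ), x = a ^ i * b ^ j := by
        obtain ⟨q1, q2, q3⟩ := H210.K6.card_two hoa hob (hcomm a haP b hbP) hba
        have h5 : ∀ x ∈ closure ({a, b} : Set G), x ∈ (P : Subgroup G) ∧ x ^ p = 1 := fun x hx =>
          ⟨(closure_le (P : Subgroup G)).2 (by
            rintro z (rfl | hz)
            · exact haP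
            · rw [Set.mem_singleton_iff.1 hz]; exact hbP) hx, q1 x hx⟩
        let ι : closure ({a, b} : Set G) → {x : G // x ∈ (P : Subgroup G) ∧ x ^ p = 1} := fun x => ⟨x, h5 x x.2⟩
        have hι : Function.Injective ι := fun x y hxy => Subtype.ext (congrArg (fun z : {x : G // _} => (z : G)) hxy)
        have hbij : Function.Bijective ι := by
          rw [Nat.bijective_iff_injective_and_card]
          refine ⟨hι, le_antisymm (Nat.card_le_card_of_injective _ hι) ?_⟩
          rw [q2]
          exact hr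
        intro x hx hxp
        obtain ⟨y, hy⟩ := hbij.2 ⟨x, hx, hxp⟩
        have hyx : (y : G) = x := congrArg (fun z : {x : G // _} => (z : G)) hy
        have key : ∀ z ∈ closure ({a, b} : Set G), ∃ (i : ℕ) (j : ℕ), z = a ^ i * b ^ j := by
          intro z hz
          induction hz using Subgroup.closure_induction with
          | mem w hw =>
            rcases hw with rfl | hw
            · exact ⟨1, 0, by simp⟩
            · rw [Set.mem_singleton_iff.1 hw]; exact ⟨0, 1, by simp⟩
          | one => exact ⟨0, 0, by simp⟩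
          | mul u v _ _ ihu ihv =>
            obtain ⟨i, j, rfl⟩ := ihu
            obtain ⟨i', j', rfl⟩ := ihv
            refine ⟨i + i', j + j', ?_⟩
            have hc : Commute (b ^ j) (a ^ i') := ((show Commute b a from hcomm b hbP a haP).pow_pow j i')
            rw [pow_add, pow_add]
            calc a ^ i * b ^ j * (a ^ i' * b ^ j') = a ^ i * (b ^ j * a ^ i') * b ^ j' := by group
              _ = _ := by rw [hc.eq]; group
          | inv u _ ihu =>
            obtain ⟨i, j, rfl⟩ := ihu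
            refine ⟨(p - 1) * i, (p - 1) * j, ?_⟩
            have hc : Commute (a ^ i) (b ^ j) := ((show Commute a b from hcomm a haP b hbP).pow_pow i j)
            rw [mul_comm (p - 1) i, mul_comm (p - 1) j, pow_mul, pow_mul, ← hc.mul_pow, inv_eq_iff_mul_eq_one,
              ← pow_succ', Nat.sub_add_cancel hp.out.one_lt.le, hc.mul_pow, ← pow_mul, ← pow_mul, mul_comm i, mul_comm j,
              pow_mul, pow_mul, hap, hbp, one_pow, one_pow, mul_one]
        obtain ⟨i, j, hij⟩ := key y y.2
        exact ⟨i, j, by rw [← hyx]; exact hij⟩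
      -- the exponent
      have hexp : ∀ n : Na, ∃ (i : ℕ) (j : ℕ), (n : G) * b * (n : G)⁻¹ = a ^ i * b ^ j := fun n =>
        hform _ (hnP n n.2.1 b hbP) (by rw [conj_pow, hbp, mul_one, mul_inv_cancel])
      choose i j hij using hexp
      have hfixa : ∀ n : Na, (n : G) * a * (n : G)⁻¹ = a := fun n => by
        have := mem_centralizer_singleton_iff.1 n.2.2
        rw [this, mul_inv_cancel_right]
      have hj0 : ∀ n : Na, (j n : ZMod p) ≠ 0 := by
        intro n h0
        rw [ZMod.natCast_eq_zero_iff] at h0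
        obtain ⟨m, hm⟩ := h0
        have h3 := hij n
        rw [hm, pow_mul, hbp, one_pow, mul_one] at h3
        apply hba
        have h4 : b = (n : G)⁻¹ * a ^ (i n) * n := by rw [← h3]; group
        have h5 : (n : G)⁻¹ * a * n = a := by
          have := hfixa n
          conv_lhs => rw [← this]
          group
        have h6 : (n : G)⁻¹ * a ^ (i n) * n = a ^ (i n) := by
          have : (n : G)⁻¹ * a ^ (i n) * n = ((n : G)⁻¹ * a * (n : G)⁻¹⁻¹) ^ (i n) := by rw [conj_pow, inv_inv]
          rw [this, inv_inv, h5]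
        rw [h4, h6]
        exact pow_mem (mem_zpowers a) _
      have hβ : Nat.card {x : ZMod p // x ≠ 0} = p - 1 := by
        rw [Nat.card_eq_fintype_card, Fintype.card_subtype_compl, Fintype.card_subtype_eq, ZMod.card]
      rw [← hβ]
      refine relIndex_le_of_map (fun n => (⟨(j n : ZMod p), hj0 n⟩ : {x : ZMod p // x ≠ 0})) fun n m hnm => ?_
      have h3 : (j n : ZMod p) = j m := congrArg Subtype.val hnm
      -- `b ^ j n = b ^ j m`
      have h4 : b ^ j n = b ^ j m := by
        rw [pow_eq_pow_iff_modEq, hob]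
        exact (ZMod.natCast_eq_natCast_iff _ _ _).1 h3
      -- `g = n⁻¹ m` fixes `a` and maps `b` to `a ^ s b`
      set g : G := (n : G)⁻¹ * m with hg
      have hgN : g ∈ N := mul_mem (inv_mem n.2.1) m.2.1
      have hga : g * a * g⁻¹ = a := by
        have e1 := hfixa m
        have e2 := hfixa n
        calc g * a * g⁻¹ = (n : G)⁻¹ * (m * a * (m : G)⁻¹) * n := by rw [hg]; group
          _ = (n : G)⁻¹ * (n * a * (n : G)⁻¹) * n := by rw [e1, e2]
          _ = a := by group
      have hgb : ∃ c ∈ zpowers a, g * b * g⁻¹ = c * b := by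
        have e2 : ∀ c ∈ zpowers a, (n : G)⁻¹ * c * n = c := by
          rintro _ ⟨t, rfl⟩
          have e3 : (n : G)⁻¹ * a * (n : G)⁻¹⁻¹ = a := by
            rw [inv_inv]
            have := hfixa n
            conv_lhs => rw [← this]
            group
          have e4 := conj_zpow (a := (n : G)⁻¹) (b := a) (i := t)
          rw [e3, inv_inv] at e4
          exact e4.symm
        have e5 : b ^ j n = (a ^ i n)⁻¹ * (n * b * (n : G)⁻¹) := by rw [hij n]; group
        refine ⟨a ^ (i m) * (a ^ (i n))⁻¹, mul_mem (pow_mem (mem_zpowers a) _) (inv_mem (pow_mem (mem_zpowers a) _)), ?_⟩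
        calc g * b * g⁻¹ = (n : G)⁻¹ * (m * b * (m : G)⁻¹) * n := by rw [hg]; group
          _ = (n : G)⁻¹ * (a ^ i m * b ^ j n) * n := by rw [hij m, h4]
          _ = (n : G)⁻¹ * (a ^ i m * ((a ^ i n)⁻¹ * (n * b * (n : G)⁻¹))) * n := by rw [e5]
          _ = ((n : G)⁻¹ * (a ^ i m * (a ^ i n)⁻¹) * n) * b := by group
          _ = _ := by
            rw [e2 _ (mul_mem (pow_mem (mem_zpowers a) _) (inv_mem (pow_mem (mem_zpowers a) _)))]
      obtain ⟨c, hc, hgc⟩ := hgb
      have hcP : c ∈ (P : Subgroup G) := (zpowers_le.2 haP) hc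
      have hgcc : g * c * g⁻¹ = c := by
        obtain ⟨t, rfl⟩ := hc
        have e4 := conj_zpow (a := g) (b := a) (i := t)
        rw [hga] at e4
        exact e4.symm
      -- `g ^ p` centralises `P`
      have hiter : ∀ t : ℕ, g ^ t * b * (g ^ t)⁻¹ = c ^ t * b := by
        intro t
        induction t with
        | zero => simp
        | succ t ih =>
          have e6 : g * c ^ t * g⁻¹ = c ^ t := by rw [← conj_pow, hgcc]
          calc g ^ (t + 1) * b * (g ^ (t + 1))⁻¹ = g * (g ^ t * b * (g ^ t)⁻¹) * g⁻¹ := by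
                rw [pow_succ', mul_inv_rev]; group
            _ = g * (c ^ t * b) * g⁻¹ := by rw [ih]
            _ = (g * c ^ t * g⁻¹) * (g * b * g⁻¹) := by group
            _ = c ^ t * (c * b) := by rw [e6, hgc]
            _ = c ^ (t + 1) * b := by rw [pow_succ]; group
      have hcp : c ^ p = 1 := by
        obtain ⟨t, rfl⟩ := hc
        rw [← zpow_natCast, ← zpow_mul, mul_comm, zpow_mul, zpow_natCast, hap, one_zpow]
      have hgp : ∀ x ∈ (P : Subgroup G), g ^ p * x * (g ^ p)⁻¹ = x := by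
        refine H795.fix_of_fix_small P hP (pow_mem hgN p) fun x hx hxp => ?_
        obtain ⟨s, t, rfl⟩ := hform x hx hxp
        have e7 : g ^ p * a * (g ^ p)⁻¹ = a := by
          have : ∀ t : ℕ, g ^ t * a * (g ^ t)⁻¹ = a := by
            intro t
            induction t with
            | zero => simp
            | succ t ih =>
              calc g ^ (t + 1) * a * (g ^ (t + 1))⁻¹ = g * (g ^ t * a * (g ^ t)⁻¹) * g⁻¹ := by
                    rw [pow_succ', mul_inv_rev]; group
                _ = _ := by rw [ih, hga]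
          exact this p
        have e8 : g ^ p * b * (g ^ p)⁻¹ = b := by rw [hiter, hcp, one_mul]
        calc g ^ p * (a ^ s * b ^ t) * (g ^ p)⁻¹ = (g ^ p * a ^ s * (g ^ p)⁻¹) * (g ^ p * b ^ t * (g ^ p)⁻¹) := by group
          _ = (g ^ p * a * (g ^ p)⁻¹) ^ s * (g ^ p * b * (g ^ p)⁻¹) ^ t := by rw [conj_pow, conj_pow]
          _ = _ := by rw [e7, e8]
      -- `g` centralises `P`
      obtain ⟨α, m', hm', hnm'⟩ := Nat.exists_eq_pow_mul_and_not_dvd (orderOf_pos g).ne' p hp.out.ne_one
      have hgm : g ^ m' ∈ (P : Subgroup G) := by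
        refine H795.mem_sylow_of_normalizer (k := α) P ?_ (pow_mem hgN m')
        rw [← pow_mul, mul_comm, ← hnm', pow_orderOf_eq_one]
      have hcop : Nat.Coprime m' p := ((Nat.Prime.coprime_iff_not_dvd hp.out).2 hm').symm
      have hC1 : g ^ p ∈ C := by
        rw [hC, mem_centralizer_iff]
        intro x hx
        have := hgp x hx
        rw [mul_inv_eq_iff_eq_mul] at this
        exact this.symm
      have hC2 : g ^ m' ∈ C := by
        rw [hC, mem_centralizer_iff]
        exact fun x hx => hcomm x hx _ hgm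
      have h7 : g ^ ((m' : ℤ) * Nat.gcdA m' p + (p : ℤ) * Nat.gcdB m' p) ∈ C := by
        rw [zpow_add, zpow_mul, zpow_mul, zpow_natCast, zpow_natCast]
        exact mul_mem (zpow_mem hC2 _) (zpow_mem hC1 _)
      rw [← Nat.gcd_eq_gcd_ab, hcop, Nat.cast_one, zpow_one] at h7
      exact h7
    · push Not at hex
      have h3 : Na ≤ C := by
        intro n hn
        rw [hC, mem_centralizer_iff]
        intro x hx
        have h4 := H795.fix_of_fix_small P hP hn.1 (fun x hx hxp => by
          obtain ⟨t, rfl⟩ := hex x hx hxp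
          have h5 : n * a * n⁻¹ = a := by
            have := mem_centralizer_singleton_iff.1 hn.2
            rw [this, mul_inv_cancel_right]
          have e4 := conj_zpow (a := n) (b := a) (i := t)
          rw [h5] at e4
          exact e4.symm) x hx
        rw [mul_inv_eq_iff_eq_mul] at h4
        exact h4.symm
      rw [relIndex_eq_one.2 h3]
      have := hp.out.two_le
      omega
  calc C.relIndex N = C.relIndex Na * Na.relIndex N := (relIndex_mul_relIndex _ _ _ hCNa inf_le_left).symm
    _ ≤ _ := Nat.mul_le_mul h2 h1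

/-- **Many classes of `p`-elements.** -/
theorem seven_of_rank_two {M : Ideal AlgInt} (hM : IsPModular p M) (hp57 : p = 5 ∨ p = 7) (P : Sylow p G)
    (hP : IsMulCommutative (P : Subgroup G))
    (hr : Nat.card {x : G // x ∈ (P : Subgroup G) ∧ x ^ p = 1} ≤ p ^ 2) (hc : p ^ 4 ≤ Nat.card (P : Subgroup G)) :
    7 ≤ Nat.card (principalBlock M G) := by
  classical
  have := Fintype.ofFinite G
  set N := normalizer ((P : Subgroup G) : Set G) with hN
  set C := centralizer ((P : Subgroup G) : Set G) with hC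
  have hcomm : ∀ a ∈ (P : Subgroup G), ∀ b ∈ (P : Subgroup G), a * b = b * a := fun a ha b hb =>
    H795.comm_of hP ha hb
  have hp1 : ∃ a ∈ (P : Subgroup G), a ≠ 1 := by
    by_contra hcon
    push Not at hcon
    have h1 : (P : Subgroup G) = ⊥ := (eq_bot_iff_forall _).2 hcon
    rw [h1, Subgroup.card_bot] at hc
    have := Nat.one_lt_pow (by norm_num : (4 : ℕ) ≠ 0) hp.out.one_lt
    omega
  have hidx := relIndex_le P hP hr hp1
  -- the classes
  let st : Setoid (P : Subgroup G) :=
    { r := fun x y => ∃ n ∈ N, n * (x : G) * n⁻¹ = y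
      iseqv := ⟨fun x => ⟨1, one_mem _, by group⟩, fun {x y} ⟨n, hn, h⟩ => ⟨n⁻¹, inv_mem hn, by rw [← h]; group⟩,
        fun {x y z} ⟨n, hn, h⟩ ⟨m, hm, h'⟩ => ⟨m * n, mul_mem hm hn, by rw [← h', ← h]; group⟩⟩ }
  let F : ↥(P : Subgroup G) → ↥(P : Subgroup G) := fun x => (Quotient.mk st x).out
  have hF : ∀ x, ∃ n ∈ N, n * ((F x : (P : Subgroup G)) : G) * n⁻¹ = x := fun x => Quotient.mk_out (s := st) x
  set T : Finset (P : Subgroup G) := Finset.univ.image F with hT
  have hfib : ∀ y ∈ T, ((Finset.univ : Finset (P : Subgroup G)).filter fun x => F x = y).card ≤ (p - 1) * (p ^ 2 - 1) := by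
    intro y _
    refine le_trans ?_ hidx
    have hfinq : Finite (N ⧸ C.subgroupOf N) := inferInstance
    have hf : ∀ x : {x // x ∈ ((Finset.univ : Finset (P : Subgroup G)).filter fun x => F x = y)}, ∃ n : N,
        (n : G) * (y : G) * (n : G)⁻¹ = ((x.1 : (P : Subgroup G)) : G) := by
      rintro ⟨x, hx⟩
      obtain ⟨n, hn, e⟩ := hF x
      have h1 : F x = y := (Finset.mem_filter.1 hx).2
      rw [h1] at e
      exact ⟨⟨n, hn⟩, e⟩
    choose g hg using hf
    have hinj : Function.Injective (fun x => (QuotientGroup.mk (g x) : N ⧸ C.subgroupOf N)) := by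
      intro x x' hxx
      have h1 : (g x)⁻¹ * g x' ∈ C.subgroupOf N := QuotientGroup.eq.1 hxx
      have h2 : ((g x : N) : G)⁻¹ * ((g x' : N) : G) ∈ C := h1
      rw [hC, mem_centralizer_iff] at h2
      have h3 := h2 y y.2
      apply Subtype.ext
      apply Subtype.ext
      rw [← hg x, ← hg x']
      calc ((g x : N) : G) * y * ((g x : N) : G)⁻¹ =
          ((g x : N) : G) * (y * (((g x : N) : G)⁻¹ * ((g x' : N) : G))) * ((g x' : N) : G)⁻¹ := by group
        _ = ((g x : N) : G) * ((((g x : N) : G)⁻¹ * ((g x' : N) : G)) * y) * ((g x' : N) : G)⁻¹ := by rw [h3]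
        _ = _ := by group
    have h5 := Nat.card_le_card_of_injective _ hinj
    rw [Nat.card_eq_fintype_card, Fintype.card_coe] at h5
    exact h5
  have hcard := Finset.card_le_mul_card_image (s := (Finset.univ : Finset (P : Subgroup G))) (f := F) _
    (fun y hy => hfib y hy)
  rw [Finset.card_univ, ← Nat.card_eq_fintype_card, ← hT] at hcard
  have hT7 : 7 ≤ T.card := by
    by_contra hlt
    push Not at hlt
    have h1 : (p - 1) * (p ^ 2 - 1) * T.card ≤ (p - 1) * (p ^ 2 - 1) * 6 := Nat.mul_le_mul_left _ (by omega)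
    rcases hp57 with rfl | rfl
    · norm_num at h1 hc hcard ⊢
      omega
    · norm_num at h1 hc hcard ⊢
      omega
  -- not conjugate in `G`
  have hno : ∀ x ∈ T, ∀ y ∈ T, IsConj ((x : (P : Subgroup G)) : G) ((y : (P : Subgroup G)) : G) → x = y := by
    intro x hx y hy hxy
    obtain ⟨x', -, rfl⟩ := Finset.mem_image.1 hx
    obtain ⟨y', -, rfl⟩ := Finset.mem_image.1 hy
    obtain ⟨c, hc'⟩ := isConj_iff.1 hxy
    obtain ⟨n, hn, e⟩ := Sylow.conj_eq_normalizer_conj_of_mem (P := P) ((F x' : (P : Subgroup G)) : G) c⁻¹ (F x').2 (by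
      rw [inv_inv, hc']; exact (F y').2)
    rw [inv_inv, hc'] at e
    have h1 : st.r (F x') (F y') := ⟨n⁻¹, inv_mem hn, by rw [inv_inv]; exact e.symm⟩
    have h2 : Quotient.mk st (F x') = Quotient.mk st (F y') := Quotient.sound h1
    have h3 : ∀ z, Quotient.mk st (F z) = Quotient.mk st z := fun z => Quotient.out_eq _
    show (Quotient.mk st x').out = (Quotient.mk st y').out
    rw [← h3 x', ← h3 y', h2]
  have h1 := TwoA.sum_rank_le hM (T.image fun x => ((x : (P : Subgroup G)) : G)) (by
    intro y hy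
    obtain ⟨x, hx, rfl⟩ := Finset.mem_image.1 hy
    obtain ⟨k, hk⟩ := P.2 x
    have hk' : (x : G) ^ p ^ k = 1 := congrArg Subtype.val hk
    obtain ⟨m, -, hm⟩ := (Nat.dvd_prime_pow hp.out).1 (orderOf_dvd_of_pow_eq_one hk')
    exact ⟨m, hm⟩) (by
    intro y hy y' hy' hh
    obtain ⟨x, hx, rfl⟩ := Finset.mem_image.1 hy
    obtain ⟨x', hx', rfl⟩ := Finset.mem_image.1 hy'
    rw [hno x hx x' hx' hh])
  refine hT7.trans (le_trans ?_ h1)
  rw [Finset.sum_image fun a _ b _ h => Subtype.ext h]
  calc T.card = ∑ x ∈ T, 1 := by rw [Finset.card_eq_sum_ones]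
    _ ≤ _ := Finset.sum_le_sum fun x _ => Cols.blockRank_pos hM

end

/-- **Criterion (P4).** -/
theorem KRow.of_rank_two {p : ℕ} (hp57 : p = 5 ∨ p = 7) {X : Type v} [Group X] [Finite X]
    (hab : ∀ P : Sylow p X, IsMulCommutative (P : Subgroup X))
    (hrk : ∀ E : Subgroup X, (∀ a ∈ E, a ^ p = 1) → (∀ a ∈ E, ∀ b ∈ E, a * b = b * a) → Nat.card E ≤ p ^ 2)
    (hc : p ^ 4 ∣ Nat.card X) : KRow.{u, v} p X := by
  intro M G _ _ K hS
  have hp : Fact p.Prime := ⟨hS.prime⟩
  obtain ⟨f⟩ := hS.iso
  obtain ⟨P⟩ : Nonempty (Sylow p X) := inferInstance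
  obtain ⟨Q, hQ⟩ := H210.K6.exists_sylow hS f P
  have hfi := H210.K6.emb_inj f
  have hcomm := hab P
  have hQc : IsMulCommutative (Q : Subgroup G) := by
    refine H795.isMulCommutative_of ?_
    rw [hQ]
    rintro _ ⟨a, ha, rfl⟩ _ ⟨b, hb, rfl⟩
    rw [← map_mul, ← map_mul, H795.comm_of hcomm ha hb]
  refine seven_of_rank_two hS.modular hp57 Q hQc ?_ ?_
  · -- the elements of order `p`
    let E : Subgroup X :=
      { carrier := {x | x ∈ (P : Subgroup X) ∧ x ^ p = 1}
        one_mem' := ⟨one_mem _, one_pow p⟩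
        mul_mem' := by
          rintro a b ⟨ha, ha'⟩ ⟨hb, hb'⟩
          exact ⟨mul_mem ha hb, by
            rw [(show Commute a b from H795.comm_of hcomm ha hb).mul_pow, ha', hb', mul_one]⟩
        inv_mem' := by
          rintro a ⟨ha, ha'⟩
          exact ⟨inv_mem ha, by rw [inv_pow, ha', inv_one]⟩ }
    have h1 := hrk E (fun a ha => ha.2) (fun a ha b hb => H795.comm_of hcomm ha.1 hb.1)
    refine le_trans ?_ h1
    refine Nat.card_le_card_of_surjective (fun x : E => (⟨H210.K6.emb f x, by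
      rw [hQ]; exact ⟨x, x.2.1, rfl⟩, by rw [← map_pow, x.2.2, map_one]⟩ :
        {x : G // x ∈ (Q : Subgroup G) ∧ x ^ p = 1})) ?_
    rintro ⟨y, hy, hyp⟩
    rw [hQ] at hy
    obtain ⟨x, hx, rfl⟩ := hy
    refine ⟨⟨x, hx, ?_⟩, rfl⟩
    apply hfi
    rw [map_pow, map_one]
    exact hyp
  · have h1 : Nat.card (Q : Subgroup G) = Nat.card (P : Subgroup X) := by
      rw [hQ]
      exact (Nat.card_congr ((P : Subgroup X).equivMapOfInjective (H210.K6.emb f) hfi).toEquiv).symm
    rw [h1, Sylow.card_eq_multiplicity]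
    exact Nat.pow_le_pow_right hp.out.pos ((hp.out.pow_dvd_iff_le_factorization Nat.card_pos.ne').1 hc)

end Cfsg.Agent.H228.K6
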