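import Cfsg.Agent.H228.K6.Crit

/-!
# S4876: `³D₄(q)`, `p = 7` (helper228)

The inertial data.
-/

set_option autoImplicit false
set_option linter.unusedSectionVars false
set_option maxRecDepth 100000
set_option maxHeartbeats 8000000

namespace Cfsg.Agent.H228.K6.D4

open Cfsg Cfsg.Lie Cfsg.Lie.ChevalleyDatum
open Cfsg.Agent.ChevalleyStructure.CoxeterGeomTypes Cfsg.Agent.Nodes.RGDChev Cfsg.Agent.H129.WData
  Cfsg.Agent.H129.TorusChar Cfsg.Agent.BpExc.RowsUntw Cfsg.Agent.H720.TwFr Cfsg.Agent.H210.EL Cfsg.Agent.H61.K6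
  Cfsg.Agent.H404.K6

universe u v

local instance : Fact (Nat.Prime 5) := ⟨by norm_num⟩
local instance : Fact (Nat.Prime 7) := ⟨by norm_num⟩

/-- the Cartan matrix -/
def Am : Mat 4 := ![![2, -1, 0, 0], ![-1, 2, -1, -1], ![0, -1, 2, 0], ![0, -1, 0, 2]]

/-- times the triality: an element of order 3 -/
def w3 : List (Fin 4 × Mat 4) := [
    (1, dm 622744264304603660008943),
    (2, dm 622781157757566740577743),
    (0, dm 625142340999000489442767),
    (1, dm 625142340999000490491343),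
    (3, dm 625179234522332248129007),
    (2, dm 662958130356492390907375),
    (1, dm 661777539861674886447599),
    (0, dm 661740646338343128809999)]

/-- the twisted element -/
def tw3 : Mat 4 := ![![0, 1, 0, 1], ![0, 0, 1, 0], ![0, -1, -1, 0], ![-1, -1, -1, -1]]

/-- times the triality: an element of order 6 -/
def w6 : List (Fin 4 × Mat 4) := [
    (3, dm 625179162394368391300657),
    (1, dm 662958130286122571941425),
    (2, dm 662958130356491282564657),
    (1, dm 661777539861674851844657)]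

/-- the twisted element -/
def tw6 : Mat 4 := ![![0, -1, 0, -1], ![0, 0, -1, 0], ![0, 1, 1, 0], ![1, 1, 1, 1]]

/-- a generalised reflection -/
def v0 : List (Fin 4 × Mat 4) := [
    (1, dm 661777537539507401278001),
    (2, dm 661740644086544387818001)]

theorem hA : ∀ i j, Am i j = cartanOf chevD4 4 i j := by decide +kernel
theorem w3_ok : ChainOK Am w3 := by decide +kernel
theorem tw3_ok : ∀ j, tw3 j = hd w3 (rho4 j) := by decide +kernel
theorem w6_ok : ChainOK Am w6 := by decide +kernel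
theorem tw6_ok : ∀ j, tw6 j = hd w6 (rho4 j) := by decide +kernel
theorem v0_ok : ChainOK Am v0 := by decide +kernel
theorem v0_w3 : CommOK (hd v0) tw3 := by decide +kernel
theorem v0_w6 : CommOK (hd v0) tw6 := by decide +kernel

theorem inert_7_2 {K : Type} [Field K] [Fintype K] (hF : ((7 : ℕ) : K) ≠ 0) {q : ℕ} (hq : IsPrimePow q)
    (hK : Fintype.card K = q ^ 3) (hs : (q : ZMod 7) = 2) (hc : ¬ 7 ^ 3 ∣ Nat.card ↥(twistedD4 K q)) :
    ∃ (x y z : ↥(twistedD4 K q)) (r : ℕ), Inert 7 x y z r 3 := by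
  obtain ⟨Γ, _, f, X, h⟩ := exists_out_four (p := 7) hF hq hK hA w3_ok tw3_ok
  rw [hs] at h
  obtain ⟨x, y, z, H⟩ := h.inert (C := v0) v0_ok v0_w3 (a := ![1, 1, 2, 1]) (b := ![1, 0, 0, 2]) (by decide +kernel) (by decide +kernel)
    (by decide +kernel) (by decide +kernel) (t := 2) (n := 4) (by decide +kernel) (by decide +kernel)
    (by decide +kernel) (m := 3) (by norm_num) (fun i h1 h2 => by interval_cases i <;> decide +kernel) hc
  exact ⟨x, y, z, _, H⟩

theorem inert_7_4 {K : Type} [Field K] [Fintype K] (hF : ((7 : ℕ) : K) ≠ 0) {q : ℕ} (hq : IsPrimePow q)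
    (hK : Fintype.card K = q ^ 3) (hs : (q : ZMod 7) = 4) (hc : ¬ 7 ^ 3 ∣ Nat.card ↥(twistedD4 K q)) :
    ∃ (x y z : ↥(twistedD4 K q)) (r : ℕ), Inert 7 x y z r 3 := by
  obtain ⟨Γ, _, f, X, h⟩ := exists_out_four (p := 7) hF hq hK hA w3_ok tw3_ok
  rw [hs] at h
  obtain ⟨x, y, z, H⟩ := h.inert (C := v0) v0_ok v0_w3 (a := ![1, 3, 5, 1]) (b := ![1, 0, 0, 4]) (by decide +kernel) (by decide +kernel)
    (by decide +kernel) (by decide +kernel) (t := 4) (n := 2) (by decide +kernel) (by decide +kernel)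
    (by decide +kernel) (m := 3) (by norm_num) (fun i h1 h2 => by interval_cases i <;> decide +kernel) hc
  exact ⟨x, y, z, _, H⟩

theorem inert_7_3 {K : Type} [Field K] [Fintype K] (hF : ((7 : ℕ) : K) ≠ 0) {q : ℕ} (hq : IsPrimePow q)
    (hK : Fintype.card K = q ^ 3) (hs : (q : ZMod 7) = 3) (hc : ¬ 7 ^ 3 ∣ Nat.card ↥(twistedD4 K q)) :
    ∃ (x y z : ↥(twistedD4 K q)) (r : ℕ), Inert 7 x y z r 3 := by
  obtain ⟨Γ, _, f, X, h⟩ := exists_out_four (p := 7) hF hq hK hA w6_ok tw6_ok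
  rw [hs] at h
  obtain ⟨x, y, z, H⟩ := h.inert (C := v0) v0_ok v0_w6 (a := ![1, 3, 5, 1]) (b := ![1, 0, 0, 4]) (by decide +kernel) (by decide +kernel)
    (by decide +kernel) (by decide +kernel) (t := 4) (n := 2) (by decide +kernel) (by decide +kernel)
    (by decide +kernel) (m := 3) (by norm_num) (fun i h1 h2 => by interval_cases i <;> decide +kernel) hc
  exact ⟨x, y, z, _, H⟩

theorem inert_7_5 {K : Type} [Field K] [Fintype K] (hF : ((7 : ℕ) : K) ≠ 0) {q : ℕ} (hq : IsPrimePow q)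
    (hK : Fintype.card K = q ^ 3) (hs : (q : ZMod 7) = 5) (hc : ¬ 7 ^ 3 ∣ Nat.card ↥(twistedD4 K q)) :
    ∃ (x y z : ↥(twistedD4 K q)) (r : ℕ), Inert 7 x y z r 3 := by
  obtain ⟨Γ, _, f, X, h⟩ := exists_out_four (p := 7) hF hq hK hA w6_ok tw6_ok
  rw [hs] at h
  obtain ⟨x, y, z, H⟩ := h.inert (C := v0) v0_ok v0_w6 (a := ![1, 1, 2, 1]) (b := ![1, 0, 0, 2]) (by decide +kernel) (by decide +kernel)
    (by decide +kernel) (by decide +kernel) (t := 2) (n := 4) (by decide +kernel) (by decide +kernel)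
    (by decide +kernel) (m := 3) (by norm_num) (fun i h1 h2 => by interval_cases i <;> decide +kernel) hc
  exact ⟨x, y, z, _, H⟩

end Cfsg.Agent.H228.K6.D4
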