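import Cfsg.Agent.H228.K6.Crit

/-!
# S4876: `E₆(q)`, `7 ∣ q² + q + 1`, and `²E₆(q)`, `7 ∣ q² - q + 1` (helper228)

`w` the fourth power of a Coxeter element; functionals killing 24, 12, 6 roots.
-/

set_option autoImplicit false
set_option linter.unusedSectionVars false
set_option maxRecDepth 100000
set_option maxHeartbeats 8000000

namespace Cfsg.Agent.H228.K6.E6

open Cfsg Cfsg.Lie Cfsg.Lie.ChevalleyDatum
open Cfsg.Agent.ChevalleyStructure.CoxeterGeomTypes Cfsg.Agent.Nodes.RGDChev Cfsg.Agent.H129.WData
  Cfsg.Agent.H129.TorusChar Cfsg.Agent.BpExc.RowsUntw Cfsg.Agent.H720.TwFr Cfsg.Agent.H210.EL Cfsg.Agent.H61.K6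
  Cfsg.Agent.H404.K6

universe u v

local instance : Fact (Nat.Prime 5) := ⟨by norm_num⟩
local instance : Fact (Nat.Prime 7) := ⟨by norm_num⟩

/-- the Cartan matrix -/
def Am : Mat 6 := ![![2, 0, -1, 0, 0, 0], ![0, 2, 0, -1, 0, 0], ![-1, 0, 2, -1, 0, 0], ![0, -1, -1, 2, -1, 0], ![0, 0, 0, -1, 2, -1], ![0, 0, 0, 0, -1, 2]]

/-- `w`, of order 3 -/
def cw : List (Fin 6 × Mat 6) := [
    (0, dm 741530146135507499340122687315272549700117943524312624),
    (2, dm 741530147562755192046082567135618479864232806081676849),
    (3, dm 741531609064391161819533087066598523240443452352677425),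
    (4, dm 741578377116742194569990289677091656756306113203881521),
    (5, dm 743074954793369039158230862945793130567307888222094897),
    (1, dm 838855926052885602408566305859616017998182360346609201),
    (3, dm 838855926052885602408566305859616017998182394706347569),
    (4, dm 838855926052929158551491621163769805538948723696551473),
    (2, dm 840352503729556003138434120219046498264684303618754097),
    (3, dm 840352503729557364267901803972899171171493313280297521),
    (0, dm 840399271781951953161284321887508313296294530332052017),
    (2, dm 840399271781951953161284323125448352581674804157434417),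
    (1, dm 840400733283587922934736110707027443595666229720335921),
    (3, dm 840400778955514132060748130075405141769167726167279153),
    (4, dm 840447547007908720954130647990089841757624488798242353),
    (5, dm 841944124684535565543669295472216096656144258723006001),
    (4, dm 841944124729137055940730541755287533201440981701412401),
    (3, dm 840447547053904007926100058219507260694961734369723953),
    (2, dm 840400779001552975175683420428145872656256238069794353),
    (1, dm 840399317499918366531699316600420635140694539579737649),
    (3, dm 840399271827992199940983162349350869889018972103820817),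
    (4, dm 840352503775641167190566524558065039713969021383099921),
    (2, dm 838855926100408119178532189449134329380273964053972497),
    (3, dm 838855926100406758049065773345881884702865351584006673)]

/-- `- w` -/
def Tm : Mat 6 := fun i j => - hd cw i j

/-- `- w` times the graph automorphism -/
def cm : List (Fin 6 × Mat 6) := [
    (5, dm 741530101892222864565654068512885437930912358648563217),
    (4, dm 789420587544281891389352413150018226110637292754880017),
    (3, dm 790917165219514939403982896687007424437857069166020113),
    (2, dm 790917165219558495546948776810330736387608335497053713),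
    (1, dm 790918626721195826449865712844564405032848311649321489),
    (3, dm 790918672393121993040581946323796647655373290890347025),
    (4, dm 791012208497867614684381102029767177818880004242031121),
    (5, dm 792508786175888255846231765030180927115915577677857297),
    (3, dm 840399271827947282669930109589942462912361838674461201),
    (4, dm 840352503775639806062438787102734862414387486992646673),
    (3, dm 838855926100406758049106377779170445175811605394899473),
    (1, dm 838855926100363201906181062475016657635080460776784401)]

/-- fixes the first functional -/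
def c1 : List (Fin 6 × Mat 6) := [
    (2, dm 840400779000115579925150264102553509684495816380139025),
    (1, dm 840399317498479610151699744171575827491525505420116497),
    (3, dm 840399271826553486096279415423732701136018957083886097),
    (4, dm 840352503774202453345903342451578616438090986542350865)]

/-- first factor of the commutator -/
def c2 : List (Fin 6 × Mat 6) := [
    (2, dm 838855926100408119178532189449134329380273964053972497),
    (3, dm 838855926100406758049065773345881884702865351584006673)]

/-- second factor of the commutator -/
def c3 : List (Fin 6 × Mat 6) := [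
    (4, dm 791012208500743723825092435221938281496066199241833967),
    (5, dm 792508786175976771839722918757718554003671346480365039),
    (3, dm 840399271828035798621882888487887094999541770467360239),
    (4, dm 840352503775641209728540935392409698351897717966880239),
    (2, dm 838855926100408161713910451855420500025803841462582767),
    (1, dm 838855926100406800584444035752165694165155993193266671),
    (3, dm 838855926100406758049148210248939018375498826634477071),
    (2, dm 838855926100363201906182330125615706425782744675532303),
    (1, dm 838855926100363201906181062475016658788001965383631375),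
    (0, dm 838855926100363201906181022860935401655833237331132943)]

theorem hA : ∀ i j, Am i j = cartanOf chevE6 6 i j := by decide +kernel
theorem cw_ok : ChainOK Am cw := by decide +kernel
theorem cm_ok : ChainOK Am cm := by decide +kernel
theorem tm_ok : ∀ j, Tm j = hd cm (rho6 j) := by decide +kernel
theorem c1_ok : ChainOK Am c1 := by decide +kernel
theorem c1_w : CommOK (hd c1) (hd cw) := by decide +kernel
theorem c1_m : CommOK (hd c1) Tm := by decide +kernel
theorem c2_ok : ChainOK Am c2 := by decide +kernel
theorem c2_w : CommOK (hd c2) (hd cw) := by decide +kernel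
theorem c2_m : CommOK (hd c2) Tm := by decide +kernel
theorem c3_ok : ChainOK Am c3 := by decide +kernel
theorem c3_w : CommOK (hd c3) (hd cw) := by decide +kernel
theorem c3_m : CommOK (hd c3) Tm := by decide +kernel

section

theorem e6_2 {F : Type} [Field F] [Fintype F] (hF : (7 : F) ≠ 0) {q : ℕ} (hq : Fintype.card F = q) (hs : (q : ZMod 7) = 2) :
    KRow.{u, 0} 7 ↥(chevE6.group F) := by
  obtain ⟨Γ, _, f, X, h⟩ := exists_out_untw e6T (p := 7) hF hq invC_E6 three_ne_zero (Or.inr Nat.prime_three)
    (by norm_num) hA cw_ok
  rw [hs] at h
  refine krow_three h (a := ![1, 0, 0, 0, 0, 2]) (b := ![1, 3, 0, 0, 6, 0]) (c := ![1, 1, 0, 0, 2, 6]) (by decide +kernel) (by decide +kernel) (by decide +kernel)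
    (by decide +kernel) (by decide +kernel) (by decide +kernel) ?_ ?_
    (na := 24) (nb := 12) (nc := 6) (by decide +kernel) (by decide +kernel) (by decide +kernel) (by norm_num)
  · exact h.wt_two (C := c1) c1_ok c1_w (a := ![1, 2, 2, 4, 5, 3]) (by decide +kernel) (by decide +kernel) (by decide +kernel)
      (t := 3) (n := 5) (by decide +kernel) (by decide +kernel) (by decide +kernel) (by decide +kernel)
  · exact h.wt_two_comm (C := c2) (C' := c3) c2_ok c2_w c3_ok c3_w (a := ![3, 4, 0, 0, 1, 1]) (by decide +kernel)
      (by decide +kernel) (by decide +kernel) (n := 2) (by decide +kernel) (by decide +kernel) (by decide +kernel)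

theorem e6_4 {F : Type} [Field F] [Fintype F] (hF : (7 : F) ≠ 0) {q : ℕ} (hq : Fintype.card F = q) (hs : (q : ZMod 7) = 4) :
    KRow.{u, 0} 7 ↥(chevE6.group F) := by
  obtain ⟨Γ, _, f, X, h⟩ := exists_out_untw e6T (p := 7) hF hq invC_E6 three_ne_zero (Or.inr Nat.prime_three)
    (by norm_num) hA cw_ok
  rw [hs] at h
  refine krow_three h (a := ![1, 0, 0, 0, 0, 4]) (b := ![1, 5, 0, 0, 6, 0]) (c := ![1, 1, 0, 0, 4, 6]) (by decide +kernel) (by decide +kernel) (by decide +kernel)
    (by decide +kernel) (by decide +kernel) (by decide +kernel) ?_ ?_
    (na := 24) (nb := 12) (nc := 6) (by decide +kernel) (by decide +kernel) (by decide +kernel) (by norm_num)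
  · exact h.wt_two (C := c1) c1_ok c1_w (a := ![1, 4, 4, 2, 3, 5]) (by decide +kernel) (by decide +kernel) (by decide +kernel)
      (t := 5) (n := 3) (by decide +kernel) (by decide +kernel) (by decide +kernel) (by decide +kernel)
  · exact h.wt_two_comm (C := c2) (C' := c3) c2_ok c2_w c3_ok c3_w (a := ![5, 2, 0, 0, 1, 3]) (by decide +kernel)
      (by decide +kernel) (by decide +kernel) (n := 4) (by decide +kernel) (by decide +kernel) (by decide +kernel)

theorem te6_5 {K : Type} [Field K] [Fintype K] (hF : (7 : K) ≠ 0) {q : ℕ} (hq : IsPrimePow q) (hK : Fintype.card K = q ^ 2)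
    (hs : (q : ZMod 7) = 5) :
    KRow.{u, 0} 7 ↥(twistedE6 K q) := by
  obtain ⟨Γ, _, f, X, h⟩ := exists_out_six (p := 7) hF hq hK (by norm_num) hA cm_ok tm_ok
  rw [hs] at h
  refine krow_three h (a := ![1, 0, 0, 0, 0, 2]) (b := ![1, 3, 0, 0, 6, 0]) (c := ![1, 1, 0, 0, 2, 6]) (by decide +kernel) (by decide +kernel) (by decide +kernel)
    (by decide +kernel) (by decide +kernel) (by decide +kernel) ?_ ?_
    (na := 24) (nb := 12) (nc := 6) (by decide +kernel) (by decide +kernel) (by decide +kernel) (by norm_num)
  · exact h.wt_two (C := c1) c1_ok c1_m (a := ![1, 2, 2, 4, 5, 3]) (by decide +kernel) (by decide +kernel) (by decide +kernel)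
      (t := 3) (n := 5) (by decide +kernel) (by decide +kernel) (by decide +kernel) (by decide +kernel)
  · exact h.wt_two_comm (C := c2) (C' := c3) c2_ok c2_m c3_ok c3_m (a := ![3, 4, 0, 0, 1, 1]) (by decide +kernel)
      (by decide +kernel) (by decide +kernel) (n := 2) (by decide +kernel) (by decide +kernel) (by decide +kernel)

theorem te6_3 {K : Type} [Field K] [Fintype K] (hF : (7 : K) ≠ 0) {q : ℕ} (hq : IsPrimePow q) (hK : Fintype.card K = q ^ 2)
    (hs : (q : ZMod 7) = 3) :
    KRow.{u, 0} 7 ↥(twistedE6 K q) := by
  obtain ⟨Γ, _, f, X, h⟩ := exists_out_six (p := 7) hF hq hK (by norm_num) hA cm_ok tm_ok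
  rw [hs] at h
  refine krow_three h (a := ![1, 0, 0, 0, 0, 4]) (b := ![1, 5, 0, 0, 6, 0]) (c := ![1, 1, 0, 0, 4, 6]) (by decide +kernel) (by decide +kernel) (by decide +kernel)
    (by decide +kernel) (by decide +kernel) (by decide +kernel) ?_ ?_
    (na := 24) (nb := 12) (nc := 6) (by decide +kernel) (by decide +kernel) (by decide +kernel) (by norm_num)
  · exact h.wt_two (C := c1) c1_ok c1_m (a := ![1, 4, 4, 2, 3, 5]) (by decide +kernel) (by decide +kernel) (by decide +kernel)
      (t := 5) (n := 3) (by decide +kernel) (by decide +kernel) (by decide +kernel) (by decide +kernel)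
  · exact h.wt_two_comm (C := c2) (C' := c3) c2_ok c2_m c3_ok c3_m (a := ![5, 2, 0, 0, 1, 3]) (by decide +kernel)
      (by decide +kernel) (by decide +kernel) (n := 4) (by decide +kernel) (by decide +kernel) (by decide +kernel)

end

end Cfsg.Agent.H228.K6.E6
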