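import Cfsg.Agent.H228.K6.Crit

/-!
# S4876: `F₄(q)`, `p = 5, 7` (helper228)

The inertial data.
-/

set_option autoImplicit false
set_option linter.unusedSectionVars false
set_option maxRecDepth 100000
set_option maxHeartbeats 8000000

namespace Cfsg.Agent.H228.K6.F4

open Cfsg Cfsg.Lie Cfsg.Lie.ChevalleyDatum
open Cfsg.Agent.ChevalleyStructure.CoxeterGeomTypes Cfsg.Agent.Nodes.RGDChev Cfsg.Agent.H129.WData
  Cfsg.Agent.H129.TorusChar Cfsg.Agent.BpExc.RowsUntw Cfsg.Agent.H720.TwFr Cfsg.Agent.H210.EL Cfsg.Agent.H61.K6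
  Cfsg.Agent.H404.K6

universe u v

local instance : Fact (Nat.Prime 5) := ⟨by norm_num⟩
local instance : Fact (Nat.Prime 7) := ⟨by norm_num⟩

/-- the Cartan matrix -/
def Am : Mat 4 := ![![2, -1, 0, 0], ![-1, 2, -2, 0], ![0, -1, 2, -1], ![0, 0, -1, 2]]

/-- an element of order 4 -/
def w4 : List (Fin 4 × Mat 4) := [
    (0, dm 583745504229522445747793),
    (1, dm 583747810070332637234769),
    (2, dm 583747810070332670789169),
    (3, dm 584928401691050082092593),
    (1, dm 622707297525244584543793),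
    (2, dm 622781084501539389195857),
    (0, dm 625142266617074304960081),
    (1, dm 625142266619273327167057),
    (2, dm 625216053595568165373489),
    (3, dm 625216054721468072215089),
    (1, dm 662995022613187893150257),
    (2, dm 662921235707261799121425)]

/-- an element of order 3 -/
def w3 : List (Fin 4 × Mat 4) := [
    (1, dm 584928364536387482437168),
    (2, dm 585002151442313610020400),
    (0, dm 586182741937132188222000),
    (1, dm 586182741937132188222001),
    (2, dm 586182741937132221776401),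
    (3, dm 585002151442314717315601),
    (2, dm 622781083305271879025169),
    (1, dm 625142265420806794789393),
    (2, dm 625216052397101599441457),
    (0, dm 625216053523000432543281),
    (1, dm 625218359366009646237232),
    (2, dm 625218359436378356860464),
    (3, dm 625218360562278263702064),
    (0, dm 662997328453998084637232),
    (1, dm 662995022613187893150257),
    (2, dm 662921235707261799121425)]

/-- an element of order 6 -/
def w6 : List (Fin 4 × Mat 4) := [
    (1, dm 622707297525244584543793),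
    (2, dm 622781084501539389195857),
    (0, dm 625142266617074304960081),
    (1, dm 625142266619273327167057),
    (2, dm 625216053595568165373489),
    (3, dm 625216054721468072215089),
    (1, dm 662995022613187893150257),
    (2, dm 662921235707261799121425)]

/-- a generalised reflection -/
def v0 : List (Fin 4 × Mat 4) := [
    (1, dm 662995022613187893150257),
    (2, dm 662921235707261799121425)]

/-- a generalised reflection -/
def v1 : List (Fin 4 × Mat 4) := [
    (2, dm 664175614233905339055599),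
    (1, dm 662995022613187927753199),
    (2, dm 662921235707261800169999),
    (0, dm 661740646338343128809999)]

theorem hA : ∀ i j, Am i j = cartanOf chevF4 4 i j := by decide +kernel
theorem w4_ok : ChainOK Am w4 := by decide +kernel
theorem w3_ok : ChainOK Am w3 := by decide +kernel
theorem w6_ok : ChainOK Am w6 := by decide +kernel
theorem v0_ok : ChainOK Am v0 := by decide +kernel
theorem v1_ok : ChainOK Am v1 := by decide +kernel
theorem v0_w4 : CommOK (hd v0) (hd w4) := by decide +kernel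
theorem v1_w3 : CommOK (hd v1) (hd w3) := by decide +kernel
theorem v1_w6 : CommOK (hd v1) (hd w6) := by decide +kernel

theorem inert_5_2 {F : Type} [Field F] [Fintype F] (hF : ((5 : ℕ) : F) ≠ 0) {q : ℕ} (hq : Fintype.card F = q)
    (hs : (q : ZMod 5) = 2) (hc : ¬ 5 ^ 3 ∣ Nat.card ↥(chevF4.group F)) :
    ∃ (x y z : ↥(chevF4.group F)) (r : ℕ), Inert 5 x y z r 4 := by
  obtain ⟨Γ, _, f, X, h⟩ := exists_out_untw f4T (p := 5) hF hq invC_F4 one_ne_zero (Or.inl rfl)
    (by norm_num) hA w4_ok
  rw [hs] at h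
  obtain ⟨x, y, z, H⟩ := h.inert (C := v0) v0_ok v0_w4 (a := ![1, 1, 1, 3]) (b := ![1, 0, 0, 1]) (by decide +kernel) (by decide +kernel)
    (by decide +kernel) (by decide +kernel) (t := 2) (n := 3) (by decide +kernel) (by decide +kernel)
    (by decide +kernel) (m := 4) (by norm_num) (fun i h1 h2 => by interval_cases i <;> decide +kernel) hc
  exact ⟨x, y, z, _, H⟩

theorem inert_5_3 {F : Type} [Field F] [Fintype F] (hF : ((5 : ℕ) : F) ≠ 0) {q : ℕ} (hq : Fintype.card F = q)
    (hs : (q : ZMod 5) = 3) (hc : ¬ 5 ^ 3 ∣ Nat.card ↥(chevF4.group F)) :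
    ∃ (x y z : ↥(chevF4.group F)) (r : ℕ), Inert 5 x y z r 4 := by
  obtain ⟨Γ, _, f, X, h⟩ := exists_out_untw f4T (p := 5) hF hq invC_F4 one_ne_zero (Or.inl rfl)
    (by norm_num) hA w4_ok
  rw [hs] at h
  obtain ⟨x, y, z, H⟩ := h.inert (C := v0) v0_ok v0_w4 (a := ![1, 2, 4, 4]) (b := ![1, 0, 0, 2]) (by decide +kernel) (by decide +kernel)
    (by decide +kernel) (by decide +kernel) (t := 3) (n := 2) (by decide +kernel) (by decide +kernel)
    (by decide +kernel) (m := 4) (by norm_num) (fun i h1 h2 => by interval_cases i <;> decide +kernel) hc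
  exact ⟨x, y, z, _, H⟩

theorem inert_7_2 {F : Type} [Field F] [Fintype F] (hF : ((7 : ℕ) : F) ≠ 0) {q : ℕ} (hq : Fintype.card F = q)
    (hs : (q : ZMod 7) = 2) (hc : ¬ 7 ^ 3 ∣ Nat.card ↥(chevF4.group F)) :
    ∃ (x y z : ↥(chevF4.group F)) (r : ℕ), Inert 7 x y z r 3 := by
  obtain ⟨Γ, _, f, X, h⟩ := exists_out_untw f4T (p := 7) hF hq invC_F4 one_ne_zero (Or.inl rfl)
    (by norm_num) hA w3_ok
  rw [hs] at h
  obtain ⟨x, y, z, H⟩ := h.inert (C := v1) v1_ok v1_w3 (a := ![1, 1, 1, 6]) (b := ![0, 1, 6, 2]) (by decide +kernel) (by decide +kernel)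
    (by decide +kernel) (by decide +kernel) (t := 4) (n := 2) (by decide +kernel) (by decide +kernel)
    (by decide +kernel) (m := 3) (by norm_num) (fun i h1 h2 => by interval_cases i <;> decide +kernel) hc
  exact ⟨x, y, z, _, H⟩

theorem inert_7_4 {F : Type} [Field F] [Fintype F] (hF : ((7 : ℕ) : F) ≠ 0) {q : ℕ} (hq : Fintype.card F = q)
    (hs : (q : ZMod 7) = 4) (hc : ¬ 7 ^ 3 ∣ Nat.card ↥(chevF4.group F)) :
    ∃ (x y z : ↥(chevF4.group F)) (r : ℕ), Inert 7 x y z r 3 := by
  obtain ⟨Γ, _, f, X, h⟩ := exists_out_untw f4T (p := 7) hF hq invC_F4 one_ne_zero (Or.inl rfl)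
    (by norm_num) hA w3_ok
  rw [hs] at h
  obtain ⟨x, y, z, H⟩ := h.inert (C := v1) v1_ok v1_w3 (a := ![1, 5, 6, 1]) (b := ![0, 1, 6, 4]) (by decide +kernel) (by decide +kernel)
    (by decide +kernel) (by decide +kernel) (t := 2) (n := 4) (by decide +kernel) (by decide +kernel)
    (by decide +kernel) (m := 3) (by norm_num) (fun i h1 h2 => by interval_cases i <;> decide +kernel) hc
  exact ⟨x, y, z, _, H⟩

theorem inert_7_3 {F : Type} [Field F] [Fintype F] (hF : ((7 : ℕ) : F) ≠ 0) {q : ℕ} (hq : Fintype.card F = q)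
    (hs : (q : ZMod 7) = 3) (hc : ¬ 7 ^ 3 ∣ Nat.card ↥(chevF4.group F)) :
    ∃ (x y z : ↥(chevF4.group F)) (r : ℕ), Inert 7 x y z r 3 := by
  obtain ⟨Γ, _, f, X, h⟩ := exists_out_untw f4T (p := 7) hF hq invC_F4 one_ne_zero (Or.inl rfl)
    (by norm_num) hA w6_ok
  rw [hs] at h
  obtain ⟨x, y, z, H⟩ := h.inert (C := v1) v1_ok v1_w6 (a := ![1, 1, 1, 6]) (b := ![0, 1, 6, 2]) (by decide +kernel) (by decide +kernel)
    (by decide +kernel) (by decide +kernel) (t := 4) (n := 2) (by decide +kernel) (by decide +kernel)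
    (by decide +kernel) (m := 3) (by norm_num) (fun i h1 h2 => by interval_cases i <;> decide +kernel) hc
  exact ⟨x, y, z, _, H⟩

theorem inert_7_5 {F : Type} [Field F] [Fintype F] (hF : ((7 : ℕ) : F) ≠ 0) {q : ℕ} (hq : Fintype.card F = q)
    (hs : (q : ZMod 7) = 5) (hc : ¬ 7 ^ 3 ∣ Nat.card ↥(chevF4.group F)) :
    ∃ (x y z : ↥(chevF4.group F)) (r : ℕ), Inert 7 x y z r 3 := by
  obtain ⟨Γ, _, f, X, h⟩ := exists_out_untw f4T (p := 7) hF hq invC_F4 one_ne_zero (Or.inl rfl)
    (by norm_num) hA w6_ok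
  rw [hs] at h
  obtain ⟨x, y, z, H⟩ := h.inert (C := v1) v1_ok v1_w6 (a := ![1, 5, 6, 1]) (b := ![0, 1, 6, 4]) (by decide +kernel) (by decide +kernel)
    (by decide +kernel) (by decide +kernel) (t := 2) (n := 4) (by decide +kernel) (by decide +kernel)
    (by decide +kernel) (m := 3) (by norm_num) (fun i h1 h2 => by interval_cases i <;> decide +kernel) hc
  exact ⟨x, y, z, _, H⟩

end Cfsg.Agent.H228.K6.F4
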