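import Cfsg.Agent.H228.K6.TwoGen
import Cfsg.Agent.H228.K6.RowF4
import Cfsg.Agent.S2378
import Cfsg.Agent.S1066
import Cfsg.Agent.S1067
import Cfsg.Agent.H129.FE.ESeven
import Cfsg.Agent.H172.SINum
import Cfsg.Agent.H343.WitExc

/-!
# S4876: the rows with Sylow subgroups of rank two coming from `F₄(q)` (helper228)

* `fact_eq` : the `p`-part of the order;
* `cases_five`, `cases_seven` : `q` modulo `p`;
* `row_of_F4` : every finite group containing `F₄(q)` with the same `p`-part;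
* `row_F4`, `row_E6_four`, `row_E6_six`, `row_E7_four`, `row_2E6_four`, `row_2E6_three`;
* `not_g2`.
-/

set_option autoImplicit false
set_option linter.unusedSectionVars false

open Cfsg Subgroup Cfsg.Lie

namespace Cfsg.Agent.H228.K6

open Cfsg.Agent.H61.K6 Cfsg.Agent.H404.K6 Cfsg.Agent.H172.SI

universe u v

/-- the `p`-part of the order -/
theorem fact_eq {p : ℕ} [hp : Fact p.Prime] (hp2 : Odd p) {q N n g c : ℕ} (hq : ¬ p ∣ q) (hq2 : 2 ≤ q) (hg : ¬ p ∣ g)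
    (hc : ¬ p ∣ c) {ds : List ℕ} (hds : ∀ k ∈ ds, 0 < k) (hn : g * n = q ^ N * pr q ds * c) :
    n.factorization p = padicValNat p (q ^ orderOf (q : ZMod p) - 1) * nm (orderOf (q : ZMod p)) ds +
      H172.SI.wt p (orderOf (q : ZMod p)) ds := by
  have h1 := v_pr hp2 (j := 0) hq hq2 ds hds
  rw [pow_zero, pow_one, add_zero] at h1
  have h0 : pr q ds ≠ 0 := pr_ne_zero hq2 hds
  have hq0 : q ^ N ≠ 0 := pow_ne_zero _ (by omega)
  have hc0 : c ≠ 0 := by rintro rfl; exact hc (dvd_zero _)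
  have hg0 : g ≠ 0 := by rintro rfl; exact hg (dvd_zero _)
  have hn0 : n ≠ 0 := by
    rintro rfl
    rw [mul_zero] at hn
    exact mul_ne_zero (mul_ne_zero hq0 h0) hc0 hn.symm
  have h2 := congrArg (padicValNat p) hn
  rw [padicValNat.mul hg0 hn0, padicValNat.mul (mul_ne_zero hq0 h0) hc0, padicValNat.mul hq0 h0,
    padicValNat.eq_zero_of_not_dvd hg, padicValNat.eq_zero_of_not_dvd hc,
    padicValNat.eq_zero_of_not_dvd (n := q ^ N) (fun h => hq (hp.out.dvd_of_dvd_pow h)), zero_add, zero_add, add_zero,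
    h1] at h2
  rw [Nat.factorization_def _ hp.out, h2]

theorem cast_ne {p q : ℕ} (hq : ¬ p ∣ q) : (q : ZMod p) ≠ 0 := fun h =>
  hq ((ZMod.natCast_eq_zero_iff q p).1 h)

theorem cast_sq_ne {p q : ℕ} (hq1 : 1 ≤ q) (hd : ¬ p ∣ q ^ 2 - 1) : (q : ZMod p) ^ 2 ≠ 1 := by
  intro h
  apply hd
  rw [← ZMod.natCast_eq_zero_iff, Nat.cast_sub (Nat.one_le_pow _ _ hq1), Nat.cast_pow, h, Nat.cast_one, sub_self]

theorem cases_five {q : ℕ} (hq1 : 1 ≤ q) (hq : ¬ 5 ∣ q) (hd : ¬ 5 ∣ q ^ 2 - 1) :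
    (q : ZMod 5) = 2 ∨ (q : ZMod 5) = 3 := by
  have h1 := cast_ne hq
  have h2 := cast_sq_ne hq1 hd
  generalize (q : ZMod 5) = x at h1 h2
  revert x
  decide

theorem cases_seven {q : ℕ} (hq1 : 1 ≤ q) (hq : ¬ 7 ∣ q) (hd : ¬ 7 ∣ q ^ 2 - 1) :
    ((q : ZMod 7) = 2 ∨ (q : ZMod 7) = 4) ∨ ((q : ZMod 7) = 3 ∨ (q : ZMod 7) = 5) := by
  have h1 := cast_ne hq
  have h2 := cast_sq_ne hq1 hd
  generalize (q : ZMod 7) = x at h1 h2
  revert x
  decide

theorem order_five {x : ZMod 5} (h : x = 2 ∨ x = 3) : orderOf x = 4 := by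
  have h2 : x ^ 2 ≠ 1 := by rcases h with rfl | rfl <;> decide
  have h4 : x ^ 4 = 1 := by rcases h with rfl | rfl <;> decide
  have : Fact (Nat.Prime 2) := ⟨Nat.prime_two⟩
  have : orderOf x = 2 ^ (1 + 1) := orderOf_eq_prime_pow (by rw [pow_one]; exact h2) h4
  rw [this]
  norm_num

theorem order_seven_three {x : ZMod 7} (h : x = 2 ∨ x = 4) : orderOf x = 3 := by
  have : Fact (Nat.Prime 3) := ⟨Nat.prime_three⟩
  refine orderOf_eq_prime ?_ ?_
  · rcases h with rfl | rfl <;> decide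
  · rcases h with rfl | rfl <;> decide

theorem order_seven_six {x : ZMod 7} (h : x = 3 ∨ x = 5) : orderOf x = 6 := by
  have h6 : x ^ 6 = 1 := by rcases h with rfl | rfl <;> decide
  have h2 : x ^ 2 ≠ 1 := by rcases h with rfl | rfl <;> decide
  have h3 : x ^ 3 ≠ 1 := by rcases h with rfl | rfl <;> decide
  have hd := orderOf_dvd_of_pow_eq_one h6
  have hle := Nat.le_of_dvd (by norm_num) hd
  have hd2 : ¬ orderOf x ∣ 2 := fun h => h2 (orderOf_dvd_iff_pow_eq_one.1 h)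
  have hd3 : ¬ orderOf x ∣ 3 := fun h => h3 (orderOf_dvd_iff_pow_eq_one.1 h)
  generalize orderOf x = n at hd hle hd2 hd3
  interval_cases n <;> revert hd hd2 hd3 <;> decide

/-- the cases of the prime and of `q` -/
theorem order_cases {p q : ℕ} (h57 : p = 5 ∨ p = 7) (hq1 : 1 ≤ q) (hq : ¬ p ∣ q) (hd : ¬ p ∣ q ^ 2 - 1) :
    (p = 5 ∧ orderOf (q : ZMod p) = 4) ∨ (p = 7 ∧ orderOf (q : ZMod p) = 3) ∨ (p = 7 ∧ orderOf (q : ZMod p) = 6) := by
  rcases h57 with rfl | rfl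
  · exact Or.inl ⟨rfl, order_five (cases_five hq1 hq hd)⟩
  · rcases cases_seven hq1 hq hd with h | h
    · exact Or.inr (Or.inl ⟨rfl, order_seven_three h⟩)
    · exact Or.inr (Or.inr ⟨rfl, order_seven_six h⟩)

section

variable {F : Type} [Field F] [Fintype F] {p q : ℕ} [hp : Fact p.Prime]

theorem one_lt_q (hF : Fintype.card F = q) : 2 ≤ q := hF ▸ Fintype.one_lt_card

theorem cast_F_ne (hF : Fintype.card F = q) (hq : ¬ p ∣ q) : ((p : ℕ) : F) ≠ 0 := by
  intro h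
  have h1 : ringChar F ∣ p := ringChar.dvd h
  obtain ⟨r, hr⟩ := CharP.exists F
  obtain ⟨k, hrp, hk⟩ := FiniteField.card F r
  have h2 : r ∣ p := (CharP.cast_eq_zero_iff F r p).1 h
  have h3 : r = p := (Nat.prime_dvd_prime_iff_eq hrp hp.out).1 h2
  apply hq
  rw [← hF, hk, h3]
  exact dvd_pow_self _ k.ne_zero

theorem odd_of (h57 : p = 5 ∨ p = 7) : Odd p := by
  rcases h57 with rfl | rfl
  · exact ⟨2, rfl⟩
  · exact ⟨3, rfl⟩

theorem fact_F4 (hF : Fintype.card F = q) (h57 : p = 5 ∨ p = 7) (hq : ¬ p ∣ q) (hd : ¬ p ∣ q ^ 2 - 1) :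
    (Nat.card ↥(chevF4.group F)).factorization p = 2 * padicValNat p (q ^ orderOf (q : ZMod p) - 1) := by
  have hq2 := one_lt_q hF
  have h1 := fact_eq (odd_of h57) (N := 24) (g := 1) (c := 1) (n := Nat.card ↥(chevF4.group F)) hq hq2 hp.out.not_dvd_one
    hp.out.not_dvd_one (ds := [2, 6, 8, 12]) (by simp) (by
      rw [one_mul, mul_one, S1062.result hF]
      simp only [pr, List.map_cons, List.map_nil, List.prod_cons, List.prod_nil, mul_one]
      ring)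
  rw [h1]
  have key : ∀ p d : ℕ, ((p = 5 ∧ d = 4) ∨ (p = 7 ∧ d = 3) ∨ (p = 7 ∧ d = 6)) → nm d [2, 6, 8, 12] = 2 ∧
      H172.SI.wt p d [2, 6, 8, 12] = 0 := by
    rintro p d (⟨rfl, rfl⟩ | ⟨rfl, rfl⟩ | ⟨rfl, rfl⟩)
    · refine ⟨by decide, ?_⟩
      simp only [H172.SI.wt]
      norm_num
    · refine ⟨by decide, ?_⟩
      simp only [H172.SI.wt]
      norm_num
    · refine ⟨by decide, ?_⟩
      simp only [H172.SI.wt]
      norm_num
  obtain ⟨k1, k2⟩ := key p _ (order_cases h57 (by omega) hq hd)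
  rw [k1, k2, add_zero, mul_comm]

/-- the Sylow subgroups of `F₄(q)` -/
theorem r2_F4 (hF : Fintype.card F = q) (h57 : p = 5 ∨ p = 7) (hq : ¬ p ∣ q) (hd : ¬ p ∣ q ^ 2 - 1) :
    R2 p ↥(chevF4.group F) := by
  have hq2 := one_lt_q hF
  have ho := order_cases h57 (by omega) hq hd
  have hW : ¬ p ∣ [2, 6, 8, 12].prod := by
    rcases h57 with rfl | rfl <;> decide
  have hfac := fact_F4 hF h57 hq hd
  have hv : padicValNat p (q ^ orderOf (q : ZMod p) - 1) ≠ 0 := by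
    have h1 : p ∣ q ^ orderOf (q : ZMod p) - 1 := (dvd_iff_order (by omega)).2 dvd_rfl
    have h2 : q ^ orderOf (q : ZMod p) - 1 ≠ 0 := by
      have h3 : 1 < q ^ orderOf (q : ZMod p) := Nat.one_lt_pow (order_pos hq).ne' (by omega)
      omega
    intro h0
    rcases padicValNat.eq_zero_iff.1 h0 with h | h | h
    · exact hp.out.ne_one h
    · exact h2 h
    · exact h h1
  have hG : p ∣ Nat.card ↥(chevF4.group F) := by
    refine Nat.dvd_of_factorization_pos ?_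
    rw [hfac]
    omega
  obtain ⟨P⟩ : Nonempty (Sylow p ↥(chevF4.group F)) := inferInstance
  obtain ⟨e⟩ := S2378.result hF (chevF4, [2, 6, 8, 12]) (by simp) p hq hW hG P
  have hlen : ([2, 6, 8, 12].filter (fun e => orderOf (q : ZMod p) ∣ e)).length = 2 := by
    have key : ∀ d : ℕ, (d = 4 ∨ d = 3 ∨ d = 6) → ([2, 6, 8, 12].filter (fun e => decide (d ∣ e))).length = 2 := by
      rintro d (rfl | rfl | rfl) <;> decide
    exact key _ (by rcases ho with h | h | h; exacts [Or.inl h.2, Or.inr (Or.inl h.2), Or.inr (Or.inr h.2)])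
  change ↥(P : Subgroup ↥(chevF4.group F)) ≃* (Fin ([2, 6, 8, 12].filter (fun e => orderOf (q : ZMod p) ∣ e)).length → _) at e
  rw [hlen] at e
  have : NeZero (p ^ padicValNat p ((Polynomial.cyclotomic (orderOf (q : ZMod p)) ℤ).eval (q : ℤ)).natAbs) :=
    ⟨pow_ne_zero _ hp.out.ne_zero⟩
  exact R2.of_homo P e

/-- the inertial data of `F₄(q)` -/
theorem inert_F4 (hF : Fintype.card F = q) (h57 : p = 5 ∨ p = 7) (hq : ¬ p ∣ q) (hd : ¬ p ∣ q ^ 2 - 1)
    (hc : ¬ p ^ 3 ∣ Nat.card ↥(chevF4.group F)) :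
    ∃ (x y z : ↥(chevF4.group F)) (r n : ℕ), Inert p x y z r n ∧ ((p = 5 ∧ 4 ≤ n) ∨ (p = 7 ∧ 3 ≤ n)) := by
  have hq2 := one_lt_q hF
  have hpF := cast_F_ne hF hq
  rcases h57 with rfl | rfl
  · rcases cases_five (by omega) hq hd with h | h
    · obtain ⟨x, y, z, r, H⟩ := F4.inert_5_2 hpF hF h hc
      exact ⟨x, y, z, r, 4, H, Or.inl ⟨rfl, le_rfl⟩⟩
    · obtain ⟨x, y, z, r, H⟩ := F4.inert_5_3 hpF hF h hc
      exact ⟨x, y, z, r, 4, H, Or.inl ⟨rfl, le_rfl⟩⟩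
  · rcases cases_seven (by omega) hq hd with (h | h) | (h | h)
    · obtain ⟨x, y, z, r, H⟩ := F4.inert_7_2 hpF hF h hc
      exact ⟨x, y, z, r, 3, H, Or.inr ⟨rfl, le_rfl⟩⟩
    · obtain ⟨x, y, z, r, H⟩ := F4.inert_7_4 hpF hF h hc
      exact ⟨x, y, z, r, 3, H, Or.inr ⟨rfl, le_rfl⟩⟩
    · obtain ⟨x, y, z, r, H⟩ := F4.inert_7_3 hpF hF h hc
      exact ⟨x, y, z, r, 3, H, Or.inr ⟨rfl, le_rfl⟩⟩
    · obtain ⟨x, y, z, r, H⟩ := F4.inert_7_5 hpF hF h hc
      exact ⟨x, y, z, r, 3, H, Or.inr ⟨rfl, le_rfl⟩⟩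

/-- **The groups containing `F₄(q)` with the same `p`-part.** -/
theorem row_of_F4 (hF : Fintype.card F = q) (h57 : p = 5 ∨ p = 7) (hq : ¬ p ∣ q) (hd : ¬ p ∣ q ^ 2 - 1)
    {X : Type v} [Group X] [Finite X] (f : ↥(chevF4.group F) →* X) (hf : Function.Injective f)
    (hc : (Nat.card X).factorization p = 2 * padicValNat p (q ^ orderOf (q : ZMod p) - 1)) : KRow.{u, v} p X := by
  have hc' := hc.trans (fact_F4 hF h57 hq hd).symm
  refine ((r2_F4 hF h57 hq hd).map hf hc').krow h57 hc fun h3 => ?_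
  have h4 : ¬ p ^ 3 ∣ Nat.card ↥(chevF4.group F) := by
    rw [hp.out.pow_dvd_iff_le_factorization Nat.card_pos.ne'] at h3 ⊢
    rwa [← hc']
  obtain ⟨x, y, z, r, n, H, hn⟩ := inert_F4 hF h57 hq hd h4
  exact ⟨f x, f y, f z, r, n, H.map f hf h3, hn⟩

theorem row_F4 (hF : Fintype.card F = q) (h57 : p = 5 ∨ p = 7) (hq : ¬ p ∣ q) (hd : ¬ p ∣ q ^ 2 - 1) :
    KRow.{u, 0} p ↥(chevF4.group F) :=
  row_of_F4 hF h57 hq hd (MonoidHom.id _) Function.injective_id (fact_F4 hF h57 hq hd)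

/-- the number of degrees -/
theorem nm_wt {p d : ℕ} {ds : List ℕ} (hds : ∀ k ∈ ds, d ∣ k → ¬ p ∣ k) : H172.SI.wt p d ds = 0 := by
  induction ds with
  | nil => rfl
  | cons k ds ih =>
    rw [H172.SI.wt, ih fun k hk => hds k (List.mem_cons_of_mem _ hk), add_zero]
    split_ifs with h
    · exact padicValNat.eq_zero_of_not_dvd (hds k (by simp) h)
    · rfl

/-- `E₆(q)`, `p = 5` or `p ∣ q² - q + 1` -/
theorem row_E6 (hF : Fintype.card F = q) (h57 : (p = 5 ∧ orderOf (q : ZMod p) = 4) ∨ (p = 7 ∧ orderOf (q : ZMod p) = 6))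
    (hq : ¬ p ∣ q) (hd : ¬ p ∣ q ^ 2 - 1) : KRow.{u, 0} p ↥(chevE6.group F) := by
  have hq2 := one_lt_q hF
  have h57' : p = 5 ∨ p = 7 := by rcases h57 with h | h; exacts [Or.inl h.1, Or.inr h.1]
  have hg : ¬ p ∣ Nat.gcd 3 (q - 1) := by
    intro h
    have h1 := Nat.le_of_dvd (by norm_num) (h.trans (Nat.gcd_dvd_left _ _))
    rcases h57' with rfl | rfl <;> omega
  have h1 := fact_eq (odd_of h57') (N := 36) (c := 1) (n := Nat.card ↥(chevE6.group F)) hq hq2 hg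
    hp.out.not_dvd_one (ds := [2, 5, 6, 8, 9, 12]) (by simp) (by
      rw [mul_one, S1063.result hF]
      simp only [pr, List.map_cons, List.map_nil, List.prod_cons, List.prod_nil, mul_one]
      ring)
  refine row_of_F4 hF h57' hq hd (H129.FE.toE6 F) (H129.FE.toE6_injective F) ?_
  rw [h1]
  rcases h57 with ⟨rfl, ho⟩ | ⟨rfl, ho⟩
  · rw [ho, nm_wt (by decide), show nm 4 [2, 5, 6, 8, 9, 12] = 2 by decide, add_zero, mul_comm]
  · rw [ho, nm_wt (by decide), show nm 6 [2, 5, 6, 8, 9, 12] = 2 by decide, add_zero, mul_comm]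

/-- `E₇(q)`, `p = 5` -/
theorem row_E7 (hF : Fintype.card F = q) (h57 : p = 5 ∧ orderOf (q : ZMod p) = 4)
    (hq : ¬ p ∣ q) (hd : ¬ p ∣ q ^ 2 - 1) : KRow.{u, 0} p ↥(chevE7.group F) := by
  have hq2 := one_lt_q hF
  have h57' : p = 5 ∨ p = 7 := Or.inl h57.1
  have hg : ¬ p ∣ Nat.gcd 2 (q - 1) := by
    intro h
    have h1 := Nat.le_of_dvd (by norm_num) (h.trans (Nat.gcd_dvd_left _ _))
    rcases h57' with rfl | rfl <;> omega
  have h1 := fact_eq (odd_of h57') (N := 63) (c := 1) (n := Nat.card ↥(chevE7.group F)) hq hq2 hg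
    hp.out.not_dvd_one (ds := [2, 6, 8, 10, 12, 14, 18]) (by simp) (by
      rw [mul_one, S1064.result hF]
      simp only [pr, List.map_cons, List.map_nil, List.prod_cons, List.prod_nil, mul_one]
      ring)
  refine row_of_F4 hF h57' hq hd (H129.FE.toE7 F) (H129.FE.toE7_injective F) ?_
  rw [h1]
  obtain ⟨rfl, ho⟩ := h57
  rw [ho, nm_wt (by decide), show nm 4 [2, 6, 8, 10, 12, 14, 18] = 2 by decide, add_zero, mul_comm]

end

theorem not_dvd_add_one {p q k : ℕ} (_hp : p = 5 ∨ p = 7) {d : ℕ} (ho : orderOf (q : ZMod p) = d) (hk : ¬ d ∣ 2 * k) :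
    ¬ p ∣ q ^ k + 1 := by
  intro h
  apply hk
  rw [← ho]
  apply orderOf_dvd_of_pow_eq_one
  have h1 : ((q : ZMod p)) ^ k + 1 = 0 := by
    have := (ZMod.natCast_eq_zero_iff (q ^ k + 1) p).2 h
    push_cast at this
    exact this
  rw [mul_comm, pow_mul, eq_neg_of_add_eq_zero_left h1]
  ring

theorem not_dvd_add_one' {p q k : ℕ} [Fact p.Prime] (hp2 : p ≠ 2) {d : ℕ} (ho : orderOf (q : ZMod p) = d) (hk : d ∣ k) :
    ¬ p ∣ q ^ k + 1 := by
  intro h
  have h1 : ((q : ZMod p)) ^ k + 1 = 0 := by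
    have := (ZMod.natCast_eq_zero_iff (q ^ k + 1) p).2 h
    push_cast at this
    exact this
  rw [orderOf_dvd_iff_pow_eq_one.1 (ho ▸ hk)] at h1
  have h2 : ((2 : ℕ) : ZMod p) = 0 := by
    rw [Nat.cast_ofNat, ← h1]
    norm_num
  rw [ZMod.natCast_eq_zero_iff] at h2
  exact hp2 ((Nat.prime_dvd_prime_iff_eq Fact.out Nat.prime_two).1 h2)

/-- `²E₆(q)`, `p = 5` or `p ∣ q² + q + 1` -/
theorem row_TE6 {K : Type} [Field K] [Fintype K] {p q : ℕ} [hp : Fact p.Prime] (hq' : IsPrimePow q)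
    (hK : Fintype.card K = q ^ 2)
    (h57 : (p = 5 ∧ orderOf (q : ZMod p) = 4) ∨ (p = 7 ∧ orderOf (q : ZMod p) = 3))
    (hq : ¬ p ∣ q) (hd : ¬ p ∣ q ^ 2 - 1) : KRow.{u, 0} p ↥(twistedE6 K q) := by
  obtain ⟨F, _, _, ι, hF, hι⟩ := H343.exists_subfield K hq' two_ne_zero hK
  have hq2 := one_lt_q hF
  have h57' : p = 5 ∨ p = 7 := by rcases h57 with h | h; exacts [Or.inl h.1, Or.inr h.1]
  have hg : ¬ p ∣ Nat.gcd 3 (q + 1) := by
    intro h
    have h1 := Nat.le_of_dvd (by norm_num) (h.trans (Nat.gcd_dvd_left _ _))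
    rcases h57' with rfl | rfl <;> omega
  have hc : ¬ p ∣ (q ^ 5 + 1) * (q ^ 9 + 1) := by
    intro h
    rcases hp.out.dvd_mul.1 h with h | h
    · rcases h57 with ⟨rfl, ho⟩ | ⟨rfl, ho⟩
      · exact not_dvd_add_one h57' ho (by norm_num) h
      · exact not_dvd_add_one h57' ho (by norm_num) h
    · rcases h57 with ⟨rfl, ho⟩ | ⟨rfl, ho⟩
      · exact not_dvd_add_one h57' ho (by norm_num) h
      · exact not_dvd_add_one' (by norm_num) ho (by norm_num) h
  have h1 := fact_eq (odd_of h57') (N := 36) (n := Nat.card ↥(twistedE6 K q)) hq hq2 hg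
    hc (ds := [2, 6, 8, 12]) (by simp) (by
      rw [S1066.result hq' hK]
      simp only [pr, List.map_cons, List.map_nil, List.prod_cons, List.prod_nil, mul_one]
      ring)
  refine row_of_F4 hF h57' hq hd (H129.FE.toTE6 ι hι) (H129.FE.toTE6_injective ι hι) ?_
  rw [h1]
  rcases h57 with ⟨rfl, ho⟩ | ⟨rfl, ho⟩
  · rw [ho, nm_wt (by decide), show nm 4 [2, 6, 8, 12] = 2 by decide, add_zero, mul_comm]
  · rw [ho, nm_wt (by decide), show nm 3 [2, 6, 8, 12] = 2 by decide, add_zero, mul_comm]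

section

variable {F : Type} [Field F] [Fintype F] {p q : ℕ} [hp : Fact p.Prime]

/-- `G₂(q)` : the order is prime to `5`, the Sylow `7`-subgroups are cyclic -/
theorem g2_cyclic (hF : Fintype.card F = q) (h57 : p = 5 ∨ p = 7) (hq : ¬ p ∣ q) (hd : ¬ p ∣ q ^ 2 - 1)
    (hG : p ^ 2 ∣ Nat.card ↥(chevG2.group F)) (P : Sylow p ↥(chevG2.group F)) :
    IsCyclic ↥(P : Subgroup ↥(chevG2.group F)) := by
  have hq2 := one_lt_q hF
  have hG' : p ∣ Nat.card ↥(chevG2.group F) := (dvd_pow_self p two_ne_zero).trans hG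
  rcases order_cases h57 (by omega) hq hd with ⟨rfl, ho⟩ | h
  · -- `5 ∤ |G₂(q)|`
    exfalso
    have hcard := S1059.result hF
    rw [hcard] at hG'
    rcases hp.out.dvd_mul.1 hG' with h | h
    · rcases hp.out.dvd_mul.1 h with h | h
      · exact hq (hp.out.dvd_of_dvd_pow h)
      · exact hd h
    · rw [dvd_iff_order (by omega), ho] at h
      revert h
      decide
  have hW : ¬ p ∣ [2, 6].prod := by
    rcases h with ⟨rfl, -⟩ | ⟨rfl, -⟩ <;> decide
  obtain ⟨e⟩ := S2378.result hF (chevG2, [2, 6]) (by simp) p hq hW hG' P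
  have hlen : ([2, 6].filter (fun e => orderOf (q : ZMod p) ∣ e)).length = 1 := by
    have key : ∀ d : ℕ, (d = 3 ∨ d = 6) → ([2, 6].filter (fun e => decide (d ∣ e))).length = 1 := by
      rintro d (rfl | rfl) <;> decide
    exact key _ (by rcases h with h | h; exacts [Or.inl h.2, Or.inr h.2])
  change ↥(P : Subgroup ↥(chevG2.group F)) ≃* (Fin ([2, 6].filter (fun e => orderOf (q : ZMod p) ∣ e)).length → _) at e
  rw [hlen] at e
  let e2 := (MulEquiv.piUnique (fun _ : Fin 1 => Multiplicative (ZMod (p ^ padicValNat p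
    ((Polynomial.cyclotomic (orderOf (q : ZMod p)) ℤ).eval (q : ℤ)).natAbs)))).symm.trans e.symm
  exact isCyclic_of_surjective e2.toMonoidHom e2.surjective

end

end Cfsg.Agent.H228.K6
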