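import Cfsg.Agent.H228.K6.HomTor
import Cfsg.Agent.H228.K6.RowD4
import Cfsg.Agent.H228.K6.RowsTwo
import Cfsg.Agent.H28.T5TorRows

/-!
# S4876: the row of `³D₄(q)`, `p = 5, 7`, `p ∤ q² - 1` (helper228)

The order of `³D₄(q)` is prime to `5`; for `p = 7` the Sylow subgroups are homocyclic of rank two.
-/

set_option autoImplicit false
set_option linter.unusedSectionVars false

namespace Cfsg.Agent.H228.K6

open CoxeterSystem Cfsg Cfsg.Lie Cfsg.Lie.ChevalleyDatum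
open Cfsg.Agent.ChevalleyStructure Cfsg.Agent.ChevalleyStructure.Elts Cfsg.Agent.ChevalleyStructure.CoxeterGeom
  Cfsg.Agent.ChevalleyStructure.CoxeterGeomTypes Cfsg.Agent.ChevalleyStructure.NPerm
open Cfsg.Agent.Tits.Roots Cfsg.Agent.Tits.Core Cfsg.Agent.Nodes Cfsg.Agent.Nodes.Reps Cfsg.Agent.Nodes.BNOf
  Cfsg.Agent.Nodes.RGDChev Cfsg.Agent.Nodes.Bruhat Cfsg.Agent.Nodes.SubComb Cfsg.Agent.Nodes.Coroot
open Cfsg.Agent.BpExc.LangFr Cfsg.Agent.BpExc Cfsg.Agent.H129.TorusChar Cfsg.Agent.H129.TorusUntw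
  Cfsg.Agent.H129.WData Cfsg.Agent.H795.Tw Cfsg.Agent.H720.TwFr Cfsg.Agent.H493.PGTorus Cfsg.Agent.H493.PGTwist
  Cfsg.Agent.H378.CycTab Cfsg.Agent.H28.T5TorRows Cfsg.Agent.H172.SI Cfsg.Agent.H61.K6

universe u v

/-- the eigenfunctionals of the element of order three -/
def V3 : Fin 2 → Fin (1 + 1) → Fin 4 → ℤ := ![![![1, 0, 0, -1], ![1, 0, 0, 0]], ![![1, 1, -1, -1], ![0, 1, 0, 0]]]

/-- the dual vectors -/
def U3 : Fin 2 → Fin 4 → ℤ := ![![0, 0, 1, -1], ![0, 0, -1, 0]]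

/-- the eigenfunctionals of the element of order six -/
def V6 : Fin 2 → Fin (1 + 1) → Fin 4 → ℤ := ![![![-1, 0, 0, 1], ![1, 0, 0, 0]], ![![-1, -1, 1, 1], ![0, 1, 0, 0]]]

/-- the dual vectors -/
def U6 : Fin 2 → Fin 4 → ℤ := ![![0, 0, -1, 1], ![0, 0, 1, 0]]

theorem tab3 : TabOK D4.tw3 c3 V3 U3 := by decide +kernel

theorem tab6 : TabOK D4.tw6 c6 V6 U6 := by decide +kernel

/-- the Sylow subgroups of `³D₄(q)` in a torus with two eigenfunctionals -/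
theorem r2_TD4 {K : Type} [Field K] [Fintype K] {p q : ℕ} [hpp : Fact p.Prime] (hq : IsPrimePow q)
    (hK : Fintype.card K = q ^ 3) (hpq : ¬ p ∣ q) {A : Mat 4} (hA : ∀ i j, A i j = cartanOf chevD4 4 i j)
    {Cw : List (Fin 4 × Mat 4)} (hw : ChainOK A Cw) {Th : Mat 4} (hTh : ∀ j, Th j = hd Cw (rho4 j))
    {c : Fin (1 + 1) → ℤ} {V : Fin 2 → Fin (1 + 1) → Fin 4 → ℤ} {U : Fin 2 → Fin 4 → ℤ} (h : TabOK Th c V U)
    {a : ℕ} (ha0 : 0 < a) (ha : ((p ^ a : ℕ) : ℤ) ∣ pv c (q : ℤ))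
    (hcard : (Nat.card ↥(twistedD4 K q)).factorization p ≤ a * 2) : R2 p ↥(twistedD4 K q) := by
  obtain ⟨r, n, hr, hrF, hrk, hn0, hn, hk⟩ := exists_closure_q three_ne_zero hq hK
  have hpr : p ≠ r := by
    rintro rfl
    apply hpq
    rw [hn]
    exact dvd_pow_self _ hn0.ne'
  have hS := setup_four (algebraMap K (AlgebraicClosure K)) r (tw4_le hq hK) hk hn0 hn hK (p := p)
  have hfW : Finite coxeterD4.Group := finite_W hp4 coxeterD4.toCoxeterSystem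
  have hchain := chain_rep hp4 coxeterD4.toCoxeterSystem hA hw
  refine r2_of_eig hp4 coxeterD4.toCoxeterSystem hk hn0 hS.frob hS.fr invC_D4 two_ne_zero hS.inj (d := 1)
    (fun y hy => ?_) (w := coxeterD4.toCoxeterSystem.wordProd (Cw.map Prod.fst)) (Th := Th) (fun j => ?_) h.1 h.2
    hpp.out.not_dvd_one hpr ha0 ?_ hcard
  · obtain ⟨x, hx⟩ := desc4 (algebraMap K (AlgebraicClosure K)) r (tw4_le hq hK) hk hn0 hn hK hy
    exact ⟨x, by rw [hx, pow_one]⟩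
  · have e1 : permE rho4 (sr j) = sr (rho4 j) := by
      funext n
      show (sr j : Fin 4 → ℤ) (rho4.symm n) = (sr (rho4 j) : Fin 4 → ℤ) n
      by_cases hn' : n = rho4 j
      · rw [hn', Equiv.symm_apply_apply, sr_self, sr_self]
      · rw [sr_ne, sr_ne hn']
        intro h2
        exact hn' (by rw [← h2, Equiv.apply_symm_apply])
    rw [e1, hchain, hTh]
  · rw [← hn]
    exact ha

theorem card_TD4 {K : Type} [Field K] [Fintype K] {q : ℕ} (hq : IsPrimePow q) (hK : Fintype.card K = q ^ 3) :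
    (q ^ 4 - 1) * Nat.card ↥(twistedD4 K q) = q ^ 12 * pr q [2, 6, 12] * 1 := by
  rw [S1067.result hq hK]
  simp only [pr, List.map_cons, List.map_nil, List.prod_cons, List.prod_nil, mul_one]
  have h1 : q ^ 12 - 1 = (q ^ 8 + q ^ 4 + 1) * (q ^ 4 - 1) := by
    have h4 : 1 ≤ q ^ 4 := Nat.one_le_pow _ _ hq.pos
    have h12 : 1 ≤ q ^ 12 := Nat.one_le_pow _ _ hq.pos
    zify [h4, h12]
    ring
  rw [h1]
  ring

theorem five_aux : ((2 : ZMod 5) ^ 8 + 2 ^ 4 + 1 ≠ 0) ∧ ((3 : ZMod 5) ^ 8 + 3 ^ 4 + 1 ≠ 0) := by decide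

/-- the order of `³D₄(q)` is prime to `5` -/
theorem not_five_dvd {K : Type} [Field K] [Fintype K] {q : ℕ} (hq : IsPrimePow q) (hK : Fintype.card K = q ^ 3)
    (h5 : ¬ 5 ∣ q) (hd : ¬ 5 ∣ q ^ 2 - 1) : ¬ 5 ∣ Nat.card ↥(twistedD4 K q) := by
  intro h
  have h1 := h5
  have hp5 : Nat.Prime 5 := by norm_num
  have : Fact (Nat.Prime 5) := ⟨hp5⟩
  have hc := cases_five hq.pos h5 hd
  have ho := order_five hc
  rw [S1067.result hq hK] at h
  rcases hp5.dvd_mul.1 h with h | h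
  · rcases hp5.dvd_mul.1 h with h | h
    · rcases hp5.dvd_mul.1 h with h | h
      · exact h5 (hp5.dvd_of_dvd_pow h)
      · exact hd h
    · rw [dvd_iff_order hq.pos, ho] at h
      revert h
      decide
  · have h2 := (ZMod.natCast_eq_zero_iff (q ^ 8 + q ^ 4 + 1) 5).2 h
    push_cast at h2
    rcases hc with hc | hc
    · rw [hc] at h2
      exact five_aux.1 h2
    · rw [hc] at h2
      exact five_aux.2 h2

/-- **`³D₄(q)`** -/
theorem row_TD4 {K : Type} [Field K] [Fintype K] {p q : ℕ} [hpp : Fact p.Prime] (hq' : IsPrimePow q)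
    (hK : Fintype.card K = q ^ 3) (h57 : p = 5 ∨ p = 7) (hq : ¬ p ∣ q) (hd : ¬ p ∣ q ^ 2 - 1)
    (hG : p ∣ Nat.card ↥(twistedD4 K q)) : KRow.{u, 0} p ↥(twistedD4 K q) := by
  have hq2 : 2 ≤ q := hq'.two_le
  have hpK : ((p : ℕ) : K) ≠ 0 := by
    intro h
    obtain ⟨r, hr⟩ := CharP.exists K
    obtain ⟨k, hrp, hk⟩ := FiniteField.card K r
    have h2 : r ∣ p := (CharP.cast_eq_zero_iff K r p).1 h
    have h3 : r = p := (Nat.prime_dvd_prime_iff_eq hrp hpp.out).1 h2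
    apply hq
    refine hpp.out.dvd_of_dvd_pow (n := 3) ?_
    rw [← hK, hk, h3]
    exact dvd_pow_self _ k.ne_zero
  have hnd : ∀ d, orderOf (q : ZMod p) = d → (d = 3 ∨ d = 6) → ¬ p ∣ q ^ 4 - 1 := by
    rintro d ho hd' h
    rw [dvd_iff_order (by omega), ho] at h
    rcases hd' with rfl | rfl <;> revert h <;> decide
  have hvpos : ∀ d, orderOf (q : ZMod p) = d → 0 < padicValNat p (q ^ d - 1) := by
    rintro d rfl
    have h1 : p ∣ q ^ orderOf (q : ZMod p) - 1 := (dvd_iff_order (by omega)).2 dvd_rfl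
    have h2 : q ^ orderOf (q : ZMod p) - 1 ≠ 0 := by
      have h3 : 1 < q ^ orderOf (q : ZMod p) := Nat.one_lt_pow (order_pos hq).ne' (by omega)
      omega
    exact one_le_padicValNat_of_dvd h2 h1
  rcases order_cases h57 (by omega) hq hd with ⟨rfl, ho⟩ | ⟨rfl, ho⟩ | ⟨rfl, ho⟩
  · exact absurd hG (not_five_dvd hq' hK hq hd)
  · have hfac := fact_eq (odd_of h57) (N := 12) (c := 1) (n := Nat.card ↥(twistedD4 K q)) hq hq2
      (hnd 3 ho (Or.inl rfl)) hpp.out.not_dvd_one (ds := [2, 6, 12]) (by simp) (card_TD4 hq' hK)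
    rw [ho, nm_wt (by decide), show nm 3 [2, 6, 12] = 2 by decide, add_zero] at hfac
    refine (r2_TD4 hq' hK hq D4.hA D4.w3_ok D4.tw3_ok tab3 (hvpos 3 ho) (dvd_c3 (by omega) ho) hfac.le).krow h57
      (hfac.trans (mul_comm _ _)) fun h3 => ?_
    rcases cases_seven (by omega) hq hd with (h | h) | h
    · obtain ⟨x, y, z, r, H⟩ := D4.inert_7_2 hpK hq' hK h h3
      exact ⟨x, y, z, r, 3, H, Or.inr ⟨rfl, le_rfl⟩⟩
    · obtain ⟨x, y, z, r, H⟩ := D4.inert_7_4 hpK hq' hK h h3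
      exact ⟨x, y, z, r, 3, H, Or.inr ⟨rfl, le_rfl⟩⟩
    · rw [order_seven_six h] at ho
      norm_num at ho
  · have hfac := fact_eq (odd_of h57) (N := 12) (c := 1) (n := Nat.card ↥(twistedD4 K q)) hq hq2
      (hnd 6 ho (Or.inr rfl)) hpp.out.not_dvd_one (ds := [2, 6, 12]) (by simp) (card_TD4 hq' hK)
    rw [ho, nm_wt (by decide), show nm 6 [2, 6, 12] = 2 by decide, add_zero] at hfac
    refine (r2_TD4 hq' hK hq D4.hA D4.w6_ok D4.tw6_ok tab6 (hvpos 6 ho) (dvd_c6 (by omega) ho) hfac.le).krow h57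
      (hfac.trans (mul_comm _ _)) fun h3 => ?_
    rcases cases_seven (by omega) hq hd with h | (h | h)
    · rw [order_seven_three h] at ho
      norm_num at ho
    · obtain ⟨x, y, z, r, H⟩ := D4.inert_7_3 hpK hq' hK h h3
      exact ⟨x, y, z, r, 3, H, Or.inr ⟨rfl, le_rfl⟩⟩
    · obtain ⟨x, y, z, r, H⟩ := D4.inert_7_5 hpK hq' hK h h3
      exact ⟨x, y, z, r, 3, H, Or.inr ⟨rfl, le_rfl⟩⟩

end Cfsg.Agent.H228.K6
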