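import Cfsg.Agent.H228.K6.Rank2
import Cfsg.Agent.H228.K6.Crit

/-!
# S4876: commutative Sylow subgroups of rank two, transport (helper228)

* `R2 p X` : the Sylow `p`-subgroups of `X` are commutative, elementary abelian `p`-subgroups have order at most `p²`;
* `R2.map` : along injective homomorphisms preserving the order of the Sylow subgroups;
* `R2.of_homo` : Sylow subgroups isomorphic to `(ℤ/m)²`;
* `R2.krow`, `krow_of_inert_or` : the row.
-/

set_option autoImplicit false
set_option linter.unusedSectionVars false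

open Cfsg Subgroup

namespace Cfsg.Agent.H228.K6

open Cfsg.Agent.H61.K6 Cfsg.Agent.H404.K6

universe u v w

/-- commutative Sylow subgroups of rank at most two -/
structure R2 (p : ℕ) (X : Type*) [Group X] : Prop where
  ab : ∀ P : Sylow p X, IsMulCommutative (P : Subgroup X)
  rk : ∀ E : Subgroup X, (∀ a ∈ E, a ^ p = 1) → (∀ a ∈ E, ∀ b ∈ E, a * b = b * a) → Nat.card E ≤ p ^ 2

/-- every `p`-subgroup is conjugate to the image of a `p`-subgroup -/
theorem exists_conj_map {p : ℕ} [hp : Fact p.Prime] {X : Type v} {Y : Type w} [Group X] [Group Y] [Finite X] [Finite Y]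
    {f : Y →* X} (hf : Function.Injective f)
    (hc : (Nat.card X).factorization p = (Nat.card Y).factorization p) (P : Sylow p Y) {E : Subgroup X}
    (hE : IsPGroup p E) : ∃ g : X, ∀ a ∈ E, ∃ b ∈ (P : Subgroup Y), f b = g * a * g⁻¹ := by
  have hmp : IsPGroup p ((P : Subgroup Y).map f) := P.2.map f
  obtain ⟨Q, hQ⟩ := hmp.exists_le_sylow
  have h1 : (P : Subgroup Y).map f = (Q : Subgroup X) := by
    refine Subgroup.eq_of_le_of_card_ge hQ ?_
    rw [Q.card_eq_multiplicity, hc, Subgroup.card_map_of_injective hf, P.card_eq_multiplicity]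
  obtain ⟨R, hR⟩ := hE.exists_le_sylow
  obtain ⟨g, hg⟩ := MulAction.exists_smul_eq X Q R
  refine ⟨g⁻¹, fun a ha => ?_⟩
  have h2 : a ∈ (R : Subgroup X) := hR ha
  rw [← hg, Sylow.coe_subgroup_smul, Subgroup.mem_pointwise_smul_iff_inv_smul_mem, ← h1] at h2
  obtain ⟨b, hb, hb'⟩ := h2
  exact ⟨b, hb, by rw [hb']; simp [MulAut.smul_def, MulAut.conj_inv_apply]⟩

theorem R2.map {p : ℕ} [hp : Fact p.Prime] {X : Type v} {Y : Type w} [Group X] [Group Y] [Finite X] [Finite Y]
    (h : R2 p Y) {f : Y →* X} (hf : Function.Injective f)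
    (hc : (Nat.card X).factorization p = (Nat.card Y).factorization p) : R2 p X := by
  obtain ⟨P⟩ : Nonempty (Sylow p Y) := inferInstance
  constructor
  · intro Q
    obtain ⟨g, hg⟩ := exists_conj_map hf hc P Q.2
    have hP := h.ab P
    refine ⟨⟨fun x y => Subtype.ext ?_⟩⟩
    obtain ⟨a, ha, ha'⟩ := hg x x.2
    obtain ⟨b, hb, hb'⟩ := hg y y.2
    have h1 : a * b = b * a := congrArg Subtype.val (hP.is_comm.comm (⟨a, ha⟩ : ↥(P : Subgroup Y)) ⟨b, hb⟩)
    have h2 : f a * f b = f b * f a := by rw [← map_mul, h1, map_mul]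
    rw [ha', hb'] at h2
    have h3 : g * ((x : X) * y) * g⁻¹ = g * ((y : X) * x) * g⁻¹ := by
      calc g * ((x : X) * y) * g⁻¹ = g * x * g⁻¹ * (g * y * g⁻¹) := by group
        _ = g * y * g⁻¹ * (g * x * g⁻¹) := h2
        _ = _ := by group
    exact mul_left_cancel (mul_right_cancel h3)
  · intro E he hab
    have hEp : IsPGroup p E := fun x => ⟨1, Subtype.ext (by rw [pow_one]; exact he x x.2)⟩
    obtain ⟨g, hg⟩ := exists_conj_map hf hc P hEp
    set E' : Subgroup Y := (E.map (MulAut.conj g).toMonoidHom).comap f with hE'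
    have hmem : ∀ b, b ∈ E' ↔ ∃ a ∈ E, g * a * g⁻¹ = f b := by
      intro b
      rw [hE', Subgroup.mem_comap, Subgroup.mem_map]
      rfl
    have h1 : Nat.card E ≤ Nat.card E' := by
      choose! b hbP hb using hg
      have hbE : ∀ a ∈ E, b a ∈ E' := fun a ha => (hmem _).2 ⟨a, ha, (hb a ha).symm⟩
      refine Nat.card_le_card_of_injective (fun a : ↥E => (⟨b a, hbE a a.2⟩ : ↥E')) ?_
      intro a a' haa
      have h2 : b a = b a' := congrArg Subtype.val haa
      have h3 := hb a a.2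
      rw [h2, hb a' a'.2] at h3
      exact Subtype.ext (mul_left_cancel (mul_right_cancel h3)).symm
    refine h1.trans (h.rk E' ?_ ?_)
    · intro b hb
      obtain ⟨a, ha, hab'⟩ := (hmem b).1 hb
      apply hf
      rw [map_pow, ← hab', conj_pow, he a ha, mul_one, mul_inv_cancel, map_one]
    · intro b hb c hc'
      obtain ⟨a, ha, hab'⟩ := (hmem b).1 hb
      obtain ⟨a', ha', hab''⟩ := (hmem c).1 hc'
      apply hf
      rw [map_mul, map_mul, ← hab', ← hab'']
      calc g * a * g⁻¹ * (g * a' * g⁻¹) = g * (a * a') * g⁻¹ := by group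
        _ = g * (a' * a) * g⁻¹ := by rw [hab a ha a' ha']
        _ = _ := by group

/-- Sylow subgroups isomorphic to `(ℤ/m)²` -/
theorem R2.of_homo {p : ℕ} [hp : Fact p.Prime] {X : Type v} [Group X] [Finite X] {m : ℕ} [NeZero m] (P : Sylow p X)
    (e : ↥(P : Subgroup X) ≃* (Fin 2 → Multiplicative (ZMod m))) : R2 p X := by
  have hconj : ∀ E : Subgroup X, IsPGroup p E → ∃ g : X, ∀ a ∈ E, g * a * g⁻¹ ∈ (P : Subgroup X) := by
    intro E hE
    obtain ⟨g, hg⟩ := exists_conj_map (f := MonoidHom.id X) Function.injective_id rfl P hE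
    refine ⟨g, fun a ha => ?_⟩
    obtain ⟨b, hb, hb'⟩ := hg a ha
    rw [← hb']
    exact hb
  have hcomm : ∀ a b : ↥(P : Subgroup X), a * b = b * a := fun a b => e.injective (by
    rw [map_mul, map_mul, mul_comm])
  constructor
  · intro Q
    obtain ⟨g, hg⟩ := hconj Q Q.2
    refine ⟨⟨fun x y => Subtype.ext ?_⟩⟩
    have h1 : g * (x : X) * g⁻¹ * (g * y * g⁻¹) = g * y * g⁻¹ * (g * x * g⁻¹) :=
      congrArg Subtype.val (hcomm ⟨_, hg x x.2⟩ ⟨_, hg y y.2⟩)
    have h3 : g * ((x : X) * y) * g⁻¹ = g * ((y : X) * x) * g⁻¹ := by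
      calc g * ((x : X) * y) * g⁻¹ = g * x * g⁻¹ * (g * y * g⁻¹) := by group
        _ = g * y * g⁻¹ * (g * x * g⁻¹) := h1
        _ = _ := by group
    exact mul_left_cancel (mul_right_cancel h3)
  · intro E he _
    have hEp : IsPGroup p E := fun x => ⟨1, Subtype.ext (by rw [pow_one]; exact he x x.2)⟩
    obtain ⟨g, hg⟩ := hconj E hEp
    classical
    -- the solutions of `z ^ p = 1` in the cyclic group
    let C : Type := {z : Multiplicative (ZMod m) // z ^ p = 1}
    have hC : Nat.card C ≤ p := by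
      have h1 : (Finset.univ.filter fun z : Multiplicative (ZMod m) => z ^ p = 1).card ≤ p :=
        IsCyclic.card_pow_eq_one_le hp.out.pos
      have h2 : Nat.card C = (Finset.univ.filter fun z : Multiplicative (ZMod m) => z ^ p = 1).card := by
        rw [Nat.card_eq_fintype_card]
        exact Fintype.card_subtype _
      rw [h2]
      exact h1
    let φ : ↥E → Fin 2 → C := fun a i => ⟨e ⟨_, hg a a.2⟩ i, by
      have h1 : (⟨g * (a : X) * g⁻¹, hg a a.2⟩ : ↥(P : Subgroup X)) ^ p = 1 := Subtype.ext (by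
        show (g * (a : X) * g⁻¹) ^ p = 1
        rw [conj_pow, he a a.2, mul_one, mul_inv_cancel])
      have h2 : (e ⟨_, hg a a.2⟩) ^ p = 1 := by rw [← map_pow, h1, map_one]
      exact congrFun h2 i⟩
    have hφ : Function.Injective φ := by
      intro a b hab
      have h1 : e ⟨_, hg a a.2⟩ = e ⟨_, hg b b.2⟩ := funext fun i => congrArg Subtype.val (congrFun hab i)
      have h2 := congrArg Subtype.val (e.injective h1)
      exact Subtype.ext (mul_left_cancel (mul_right_cancel h2))
    have h3 := Nat.card_le_card_of_injective φ hφ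
    rw [Nat.card_fun, Nat.card_eq_fintype_card (α := Fin 2), Fintype.card_fin] at h3
    exact h3.trans (Nat.pow_le_pow_left hC 2)

/-- **The row**: `|X|_p` is `p²` or at least `p⁴`. -/
theorem R2.krow {p : ℕ} [hp : Fact p.Prime] {X : Type v} [Group X] [Finite X] (h : R2 p X) (h57 : p = 5 ∨ p = 7)
    {a : ℕ} (ha : (Nat.card X).factorization p = 2 * a)
    (hI : ¬ p ^ 3 ∣ Nat.card X → ∃ (x y z : X) (r n : ℕ), Inert p x y z r n ∧ ((p = 5 ∧ 4 ≤ n) ∨ (p = 7 ∧ 3 ≤ n))) :
    KRow.{u, v} p X := by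
  by_cases h3 : p ^ 3 ∣ Nat.card X
  · refine KRow.of_rank_two h57 h.ab h.rk ?_
    have h0 : Nat.card X ≠ 0 := Nat.card_pos.ne'
    rw [hp.out.pow_dvd_iff_le_factorization h0] at h3 ⊢
    omega
  · obtain ⟨x, y, z, r, n, H, hn⟩ := hI h3
    exact KRow.of_inertial H hn

end Cfsg.Agent.H228.K6
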